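import Cfsg.Agent.Lib.Invol.SemisimpleFour.CaseQ

/-!
A twisted involution commutes with `r` and spans a normal four-group with `z`.
-/

set_option autoImplicit false
set_option linter.unusedSectionVars false

namespace CfsgLib.SemisimpleFour

open Subgroup

variable {G : Type*} [Group G] [Finite G]

namespace Env

variable (E : Env G) {u : G} (hu : u ∈ E.S) (hτu : E.τ u = u * E.z) (hu2 : u * u = 1)
include hu hτu hu2

theorem u_ne_z : u ≠ E.z := fun h => E.z_ne_one (by
  have h1 := hτu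
  rw [h, E.τ_z] at h1
  exact left_eq_mul.1 h1)

theorem u_ne_one : u ≠ 1 := fun h => E.z_ne_one (by
  have h1 := hτu
  rw [h, map_one, one_mul] at h1
  exact h1.symm)

theorem u_not_fixed {x : G} (hx : x ∈ zpowers E.r) : u ≠ x := fun h => E.z_ne_one (by
  have h1 : E.τ u = u := by
    obtain ⟨a, ha⟩ := mem_zpowers_iff.1 hx
    rw [h, ← ha, map_zpow, E.τ_r]
  rw [hτu] at h1
  exact mul_eq_left.1 h1)

theorem u_inv : u⁻¹ = u := inv_eq_of_mul_eq_one_right hu2

/-- The involution commutes with `r`. -/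
theorem commute_r : Commute u E.r := by
  by_contra hne
  have hzu : Commute E.z u := (E.z_commute hu).symm
  have huru : u * E.r * u = E.r⁻¹ := by
    have hS : u * E.r * u ∈ E.S := mul_mem (mul_mem hu E.r_mem) hu
    have h1 : E.τ (u * E.r * u) = u * E.r * u := by
      rw [map_mul, map_mul, hτu, E.τ_r]
      calc u * E.z * E.r * (u * E.z) = u * (E.z * E.r) * u * E.z := by group
        _ = u * E.r * (E.z * u) * E.z := by rw [← E.z_central E.r_mem]; group
        _ = u * E.r * u * (E.z * E.z) := by rw [hzu.eq]; group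
        _ = _ := by rw [E.zz, mul_one]
    have hback : ∀ w, u * E.r * u = w → E.r = u * w * u := fun w hw => by
      rw [← hw]
      simp only [← mul_assoc, hu2, one_mul]
      rw [mul_assoc, hu2, mul_one]
    rcases E.fixed hS h1 with e | e | e | e
    · exact absurd (by rw [hback _ e, mul_one, hu2]) E.r_ne_one
    · refine absurd ?_ hne
      have h2 := congrArg (fun x => u * x) e
      simp only [← mul_assoc, hu2, one_mul] at h2
      exact h2.symm
    · refine absurd ?_ (fun h : E.r = E.z => E.r_ne_one (mul_eq_left.1 h.symm))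
      rw [hback _ e, ← hzu.eq, mul_assoc, hu2, mul_one]
    · rw [e, E.r_inv]
  have huru' : ∀ a : ℤ, u * E.r ^ a = E.r ^ (-a) * u := by
    intro a
    have h := conj_zpow (a := u) (b := E.r) (i := a)
    rw [E.u_inv hu hτu hu2, huru, inv_zpow'] at h
    rw [h, mul_assoc (u * E.r ^ a), hu2, mul_one]
  let H : Subgroup G :=
    { carrier := {x | (∃ a : ℤ, x = E.r ^ a) ∨ ∃ a : ℤ, x = E.r ^ a * u}
      one_mem' := Or.inl ⟨0, (zpow_zero _).symm⟩
      mul_mem' := by
        rintro x y (⟨a, rfl⟩ | ⟨a, rfl⟩) (⟨b, rfl⟩ | ⟨b, rfl⟩)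
        · exact Or.inl ⟨a + b, by rw [zpow_add]⟩
        · exact Or.inr ⟨a + b, by rw [← mul_assoc, zpow_add]⟩
        · exact Or.inr ⟨a + -b, by rw [mul_assoc, huru', ← mul_assoc, zpow_add]⟩
        · exact Or.inl ⟨a + -b, by
            rw [← mul_assoc, mul_assoc (E.r ^ a) u, huru', ← mul_assoc, mul_assoc _ u u, hu2,
              mul_one, zpow_add]⟩
      inv_mem' := by
        rintro x (⟨a, rfl⟩ | ⟨a, rfl⟩)
        · exact Or.inl ⟨-a, by rw [zpow_neg]⟩
        · exact Or.inr ⟨a, by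
            rw [mul_inv_rev, E.u_inv hu hτu hu2, ← zpow_neg, huru', neg_neg]⟩ }
  have hHS : H ≤ E.S := by
    rintro x (⟨a, rfl⟩ | ⟨a, rfl⟩)
    · exact zpow_mem E.r_mem a
    · exact mul_mem (zpow_mem E.r_mem a) hu
  have hτH : ∀ a : ℤ, E.τ (E.r ^ a * u) = E.r ^ a * u * E.z := fun a => by
    rw [map_mul, map_zpow, E.τ_r, hτu, mul_assoc]
  have hS : ∀ x ∈ E.S, x ∈ H := by
    by_contra hcon
    obtain ⟨h, hh, hh', -, hc⟩ := E.grow (L := H) le_rfl (fun x => E.τ_mem_S) (fun x hx => by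
        rcases hx with ⟨a, rfl⟩ | ⟨a, rfl⟩
        · exact Or.inl ⟨a, by rw [map_zpow, E.τ_r]⟩
        · refine Or.inr ⟨a + 2, ?_⟩
          rw [hτH, mul_assoc, ← hzu.eq, ← mul_assoc, zpow_add, zpow_two]; rfl)
      (lt_of_le_of_ne hHS fun e => hcon fun x hx => e ▸ hx)
    have hinv := E.τ_twist h
    rcases hc with ⟨a, ha⟩ | ⟨a, ha⟩
    · have hr : h⁻¹ * E.τ h ∈ zpowers E.r := ha ▸ zpow_mem (mem_zpowers _) a
      rcases E.twist_cases hh hr with e | e
      · obtain ⟨b, hb⟩ := mem_zpowers_iff.1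
          (E.hfixed h (E.mem_S.1 hh).1 (E.mem_S.1 hh).2 (E.τ_apply h ▸ e))
        exact hh' (Or.inl ⟨b, hb.symm⟩)
      · obtain ⟨b, hb⟩ := mem_zpowers_iff.1 (E.coset_K hu hh hτu e)
        refine hh' (Or.inr ⟨-b, ?_⟩)
        rw [← huru', hb, E.u_inv hu hτu hu2, ← mul_assoc, hu2, one_mul]
    · rw [ha, hτH, mul_inv_rev, E.u_inv hu hτu hu2, ← zpow_neg, huru', neg_neg] at hinv
      exact E.z_ne_one (mul_eq_left.1 hinv)
  have hrS : zpowers E.r ≤ E.S := zpowers_le.2 E.r_mem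
  have hur : u ∉ zpowers E.r := fun h => E.u_not_fixed hu hτu hu2 h rfl
  obtain ⟨g, hg, hgu⟩ : ∃ g ∈ E.A, g * u * g⁻¹ = E.z := by
    by_contra hcon
    refine E.no_thompson hrS hu hur (fun b hb => ?_) hu (fun g hg hgr => ?_)
      (fun g hg e he _ => ?_)
    · rcases hS b hb with ⟨a, rfl⟩ | ⟨a, rfl⟩
      · exact Or.inr (zpow_mem (mem_zpowers _) a)
      · left
        rw [mul_assoc, hu2, mul_one]
        exact zpow_mem (mem_zpowers _) a
    · obtain ⟨a, ha⟩ := mem_zpowers_iff.1 hgr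
      refine hcon ⟨g⁻¹, inv_mem hg, ?_⟩
      rw [inv_inv]
      refine (E.sq_one_fixed (ha ▸ zpow_mem E.r_mem a) (by rw [← ha, map_zpow, E.τ_r]) ?_).resolve_left
        fun h => E.u_ne_one hu hτu hu2 ?_
      · calc g⁻¹ * u * g * (g⁻¹ * u * g) = g⁻¹ * (u * u) * g := by group
          _ = 1 := by rw [hu2]; group
      · have := congrArg (fun x => g * x * g⁻¹) h
        simpa [mul_assoc] using this
    · obtain ⟨d, hd⟩ := dvd_pow_self 2 (Nat.pos_iff_ne_zero.1 he)
      rw [hd, pow_mul, pow_two, hu2, one_pow, mul_one, inv_mul_cancel]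
      exact one_mem _
  obtain ⟨d, hd⟩ : ∃ d, d = E.t * E.r := ⟨_, rfl⟩
  have hdu : Commute d u := by
    refine mul_inv_eq_iff_eq_mul.1 ?_
    have h1 : E.r * u * E.r⁻¹ = u * E.z := by
      have h2 : u * E.r = E.r⁻¹ * u := by simpa [zpow_one, zpow_neg_one] using huru' 1
      have h3 : E.r⁻¹ * u * E.r⁻¹ = u := by rw [← h2, mul_inv_cancel_right]
      calc E.r * u * E.r⁻¹ = E.r * E.r * (E.r⁻¹ * u * E.r⁻¹) := by group
        _ = E.z * u := by rw [h3]; rfl
        _ = _ := hzu.eq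
    rw [hd, show E.t * E.r * u * (E.t * E.r)⁻¹ = E.t * (E.r * u * E.r⁻¹) * E.t⁻¹ by group, E.t_inv,
      h1, ← E.τ_apply, map_mul, hτu, E.τ_z, mul_assoc, E.zz, mul_one]
  have hdd : d * d = E.z := by
    rw [hd, ← mul_assoc, E.hrt]; rfl
  have hdP : d ∈ (E.P : Subgroup G) := hd ▸ mul_mem E.htP E.hrP
  have hdA : d ∉ E.A := fun h => E.htA ((Subgroup.mul_mem_cancel_right _ E.hrA).1 (hd ▸ h))
  have hgd : g * d * g⁻¹ ∈ centralizer ({E.z} : Set G) := by
    rw [mem_centralizer_singleton_iff, ← hgu]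
    exact (hdu.map (MulAut.conj g).toMonoidHom).eq
  have hgd2 : IsPGroup 2 (zpowers (g * d * g⁻¹)) := by
    have h := (E.P.2.to_le (zpowers_le.2 hdP)).map (MulAut.conj g).toMonoidHom
    rwa [MonoidHom.map_zpowers] at h
  obtain ⟨c, hc, hcd⟩ := conj_into E.P.2
    (fun x hx => mem_centralizer_singleton_iff.2 (E.z_commute_P hx))
    (fun V hV _ hle => (E.P.3 hV hle).le) hgd2 (zpowers_le.2 hgd)
  obtain ⟨f, hf⟩ : ∃ f, f = c * g := ⟨_, rfl⟩
  have hd' := hcd _ (mem_zpowers _)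
  rw [show c * (g * d * g⁻¹) * c⁻¹ = f * d * f⁻¹ by rw [hf]; group] at hd'
  have hcz : c * E.z = E.z * c := mem_centralizer_singleton_iff.1 hc
  have hfu : f * u * f⁻¹ = E.z := by
    rw [hf, show c * g * u * (c * g)⁻¹ = c * (g * u * g⁻¹) * c⁻¹ by group, hgu, hcz,
      mul_inv_cancel_right]
  have hnA : f * d * f⁻¹ ∉ E.A := fun h => hdA (by
    have := E.normal.conj_mem _ h f⁻¹
    simpa [mul_assoc] using this)
  generalize hy : f * d * f⁻¹ = y at hd' hnA
  have hy2 : y * y = f * E.z * f⁻¹ := by rw [← hy, ← hdd]; group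
  have hys : E.t * y ∈ E.S := E.mem_S.2 ⟨mul_mem E.htP hd', (E.cover y).resolve_left hnA⟩
  generalize hs : E.t * y = s at hys
  have hsy : y * y = E.τ s * s := by
    rw [E.τ_apply, ← hs]
    simp only [← mul_assoc, E.htt, one_mul]
    rw [mul_assoc y E.t, E.htt, mul_one]
  have hzcase : y * y = 1 ∨ y * y = E.z := by
    rw [hsy]
    rcases hS s hys with ⟨a, rfl⟩ | ⟨a, rfl⟩
    · rw [map_zpow, E.τ_r, ← (Commute.refl E.r).mul_zpow]
      exact E.zpowers_z (zpow_mem (mem_zpowers _) a)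
    · right
      rw [hτH, mul_assoc (E.r ^ a * u), ← E.z_central hys, ← mul_assoc,
        ← mul_assoc, mul_assoc (E.r ^ a) u, huru', ← mul_assoc, mul_assoc _ u u, hu2, mul_one,
        ← zpow_add, add_neg_cancel, zpow_zero, one_mul]
  rcases hzcase with e | e <;> rw [hy2] at e
  · exact E.z_ne_one (conj_eq_one_iff.1 e)
  · exact E.u_ne_z hu hτu hu2 ((MulAut.conj f).injective (hfu.trans e.symm))

/-- Every element of `S` fixes or flips `u`. -/
theorem conj_u : ∀ x ∈ E.S, x * u * x⁻¹ = u ∨ x * u * x⁻¹ = u * E.z := by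
  have hur := E.commute_r hu hτu hu2
  let L : Subgroup G :=
    { carrier := {x | x ∈ E.S ∧ (x * u * x⁻¹ = u ∨ x * u * x⁻¹ = u * E.z)}
      one_mem' := ⟨one_mem _, Or.inl (by simp)⟩
      mul_mem' := by
        rintro x y ⟨hx, hx'⟩ ⟨hy, hy'⟩
        refine ⟨mul_mem hx hy, ?_⟩
        have hxz : x * E.z * x⁻¹ = E.z := by rw [E.z_central hx, mul_inv_cancel_right]
        have h : x * y * u * (x * y)⁻¹ = x * (y * u * y⁻¹) * x⁻¹ := by group
        rw [h]
        rcases hy' with e | e <;> rw [e]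
        · exact hx'
        · rw [show x * (u * E.z) * x⁻¹ = x * u * x⁻¹ * (x * E.z * x⁻¹) by group, hxz]
          rcases hx' with e' | e' <;> rw [e']
          · exact Or.inr rfl
          · exact Or.inl (by rw [mul_assoc, E.zz, mul_one])
      inv_mem' := by
        rintro x ⟨hx, hx'⟩
        refine ⟨inv_mem hx, ?_⟩
        rcases hx' with e | e
        · left; conv_lhs => rw [← e]
          group
        · right
          have h : x * (u * E.z) * x⁻¹ = u := by
            rw [show x * (u * E.z) * x⁻¹ = x * u * x⁻¹ * (x * E.z * x⁻¹) by group, e,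
              E.z_central hx, mul_inv_cancel_right, mul_assoc, E.zz, mul_one]
          conv_lhs => rw [← h]
          group }
  by_contra hcon
  obtain ⟨s, hs, hs', hsN, hc⟩ := E.grow (L := L) le_rfl (fun x => E.τ_mem_S) (fun x hx => by
      refine ⟨E.τ_mem_S hx.1, ?_⟩
      have h : E.τ x * u * (E.τ x)⁻¹ = E.τ (x * u * x⁻¹) * E.z := by
        rw [map_mul, map_mul, map_inv, hτu, mul_assoc (E.τ x * (u * E.z)),
          E.z_central (inv_mem (E.τ_mem_S hx.1))]
        simp only [← mul_assoc]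
        rw [mul_assoc (E.τ x * u) E.z, E.zz, mul_one]
      rw [h]
      rcases hx.2 with e | e <;> rw [e]
      · left; rw [hτu, mul_assoc, E.zz, mul_one]
      · right; rw [map_mul, hτu, E.τ_z, mul_assoc (u * E.z), E.zz, mul_one])
    (lt_of_le_of_ne (fun x hx => hx.1) fun e => hcon fun x hx => (e ▸ hx : x ∈ L).2)
  have huL : u ∈ L := ⟨hu, Or.inl (by group)⟩
  have he : s * u * s⁻¹ ∈ L := (mem_normalizer_iff.1 hsN u).1 huL
  have hee : s * u * s⁻¹ * (s * u * s⁻¹) = 1 := by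
    calc s * u * s⁻¹ * (s * u * s⁻¹) = s * (u * u) * s⁻¹ := by group
      _ = 1 := by rw [hu2]; group
  obtain ⟨c, hcd⟩ : ∃ c, s⁻¹ * E.τ s = c := ⟨_, rfl⟩
  rw [hcd] at hc
  have hτe : E.τ (s * u * s⁻¹) = s * (c * u * c⁻¹) * s⁻¹ * E.z := by
    rw [map_mul, map_mul, map_inv, hτu, show E.τ s = s * c by rw [← hcd]; group,
      show s * c * (u * E.z) * (s * c)⁻¹ = s * (c * u * c⁻¹) * (c * E.z * c⁻¹) * s⁻¹ by group,
      E.z_central hc.1, mul_inv_cancel_right, mul_assoc _ E.z s⁻¹,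
      ← E.z_central (inv_mem hs), ← mul_assoc]
  rcases hc.2 with e | e <;> rw [e] at hτe
  · obtain ⟨a, ha⟩ := mem_zpowers_iff.1 (E.coset_K hu he.1 hτu hτe)
    have hea : s * u * s⁻¹ = u * E.r ^ a := by rw [ha, mul_inv_cancel_left]
    have h2 : E.r ^ a * E.r ^ a = 1 := by
      rw [hea, (hur.zpow_right a).symm.mul_mul_mul_comm, hu2, one_mul] at hee
      exact hee
    refine hs' ⟨hs, ?_⟩
    rcases E.sq_one_fixed (zpow_mem E.r_mem a) (by rw [map_zpow, E.τ_r]) h2 with e' | e' <;>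
      rw [hea, e']
    · exact Or.inl (mul_one u)
    · exact Or.inr rfl
  · have hfix : E.τ (s * u * s⁻¹) = s * u * s⁻¹ := by
      rw [hτe, show s * (u * E.z) * s⁻¹ = s * u * s⁻¹ * (s * E.z * s⁻¹) by group,
        E.z_central hs, mul_inv_cancel_right, mul_assoc, E.zz, mul_one]
    rcases E.sq_one_fixed he.1 hfix hee with e' | e'
    · exact E.u_ne_one hu hτu hu2 (conj_eq_one_iff.1 e')
    · refine E.u_ne_z hu hτu hu2 ((MulAut.conj s).injective (e'.trans ?_))
      change E.z = s * E.z * s⁻¹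
      rw [E.z_central hs, mul_inv_cancel_right]

end Env

end CfsgLib.SemisimpleFour
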