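import Cfsg.Agent.Lib.Invol.SemisimpleFour.Setup

/-!
No involution of `S` is moved to its product with `z`: the Sylow subgroup is cyclic or quaternion.
-/

set_option autoImplicit false
set_option linter.unusedSectionVars false

namespace CfsgLib.SemisimpleFour

open Subgroup

variable {G : Type*} [Group G] [Finite G]

namespace Env

variable (E : Env G)

theorem zpowers_z {x : G} (hx : x ∈ zpowers E.z) : x = 1 ∨ x = E.z := by
  obtain ⟨n, rfl⟩ := mem_zpowers_iff.1 hx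
  rcases Int.even_or_odd n with ⟨d, rfl⟩ | ⟨d, rfl⟩
  · left
    rw [zpow_add, ← (Commute.refl E.z).mul_zpow, E.zz, one_zpow]
  · right
    rw [zpow_add, zpow_one, two_mul, zpow_add, ← (Commute.refl E.z).mul_zpow, E.zz, one_zpow,
      one_mul]

theorem z_mem_zpowers_r : E.z ∈ zpowers E.r := mul_mem (mem_zpowers _) (mem_zpowers _)

theorem z_commute {x : G} (hx : x ∈ E.S) : Commute x E.z := E.z_central hx

theorem zpow_z_commute {x w : G} (hx : x ∈ E.S) (hw : w ∈ zpowers E.z) : Commute x w := by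
  rcases E.zpowers_z hw with rfl | rfl
  · exact Commute.one_right x
  · exact E.z_commute hx

theorem z_commute_t : Commute E.t E.z := by
  have h := E.τ_z
  rw [E.τ_apply] at h
  change E.t * E.z = E.z * E.t
  calc E.t * E.z = E.t * E.z * E.t * E.t := by rw [mul_assoc (E.t * E.z), E.htt, mul_one]
    _ = _ := by rw [h]

theorem z_commute_P {x : G} (hx : x ∈ (E.P : Subgroup G)) : Commute x E.z := by
  rcases E.cover x with h | h
  · exact E.z_commute (E.mem_S.2 ⟨hx, h⟩)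
  · have h1 := E.z_commute_t.mul_left (E.z_commute (E.mem_S.2 ⟨mul_mem E.htP hx, h⟩))
    rwa [← mul_assoc, E.htt, one_mul] at h1

/-- Thompson transfer in `A`. -/
theorem no_thompson {D : Subgroup G} (hDS : D ≤ E.S) {a : G} (ha : a ∈ E.S) (haD : a ∉ D)
    (hD2 : ∀ b ∈ E.S, b * a ∈ D ∨ b ∈ D) {u : G} (hu : u ∈ E.S)
    (hnc : ∀ g ∈ E.A, g⁻¹ * u * g ∉ D)
    (hpow : ∀ g ∈ E.A, ∀ k : ℕ, 0 < k → g⁻¹ * u ^ (2 ^ k) * g ∈ E.S →
      g⁻¹ * u ^ (2 ^ k) * g ∈ D) : False := by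
  have hrel : (D.subgroupOf E.A).relIndex (E.sylA : Subgroup E.A) = 2 := by
    have h1 : (D.subgroupOf E.A).relIndex (E.sylA : Subgroup E.A) ∣ 2 :=
      relIndex_dvd_two_iff.2 ⟨⟨a, (E.mem_S.1 ha).2⟩, E.mem_sylA.2 ha, fun b hb =>
        hD2 b (E.mem_sylA.1 hb)⟩
    rcases (Nat.dvd_prime Nat.prime_two).1 h1 with h | h
    · exact absurd (mem_subgroupOf.1 (relIndex_eq_one.1 h
        (E.mem_sylA.2 (show ((⟨a, (E.mem_S.1 ha).2⟩ : E.A) : G) ∈ E.S from ha)))) haD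
    · exact h
  obtain ⟨M, hM, hMi, huM⟩ := Transfer.thompson_transfer E.sylA (Q := D.subgroupOf E.A)
    (fun x hx => E.mem_sylA.2 (hDS (mem_subgroupOf.1 hx))) hrel
    (u := (⟨u, (E.mem_S.1 hu).2⟩ : E.A)) hu (fun g hg => hnc g g.2 hg)
    (fun g k hk hg => hpow g g.2 k hk hg)
  have : Fact (Nat.Prime 2) := ⟨Nat.prime_two⟩
  have : IsCyclic (E.A ⧸ M) := isCyclic_of_prime_card (p := 2)
    (by rw [← index_eq_card]; exact hMi)
  let _ : CommGroup (E.A ⧸ M) := IsCyclic.commGroup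
  refine huM ((QuotientGroup.eq_one_iff _).1 ?_)
  change QuotientGroup.mk' M _ = 1
  rw [E.hom_trivial (QuotientGroup.mk' M)]
  rfl

theorem orderOf_sqrt {k : G} (h : k * k = E.z) : orderOf k = 4 := by
  refine orderOf_eq_prime_pow (p := 2) (n := 1) (fun h' => E.z_ne_one ?_) ?_
  · rw [← h]; simpa [pow_succ] using h'
  · rw [show (2 : ℕ) ^ (1 + 1) = 2 + 2 by rfl, pow_add, pow_two, h, E.zz]

theorem inv_sqrt {k : G} (h : k * k = E.z) : k⁻¹ = k * E.z := inv_eq_of_mul_eq_one_right (by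
  rw [← mul_assoc, h, E.zz])

/-- A root of `r^±` twisted by `z` generates. -/
theorem uniq_of_root {k : G} (hk : k ∈ E.S) (hτk : E.τ k = k * E.z)
    (hkk : k * k = E.r ∨ k * k = E.r * E.z) : E.Uniq := by
  have hk4 : k ^ 4 = E.z := by
    rw [show (4 : ℕ) = 2 + 2 by rfl, pow_add, pow_two]
    rcases hkk with h | h <;> rw [h]
    · rfl
    · rw [← E.r_inv, ← mul_inv_rev, ← E.z_inv]; rfl
  have hord : orderOf k = 8 := by
    refine orderOf_eq_prime_pow (p := 2) (n := 2) (fun h => E.z_ne_one ?_) ?_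
    · rw [← hk4]; simpa using h
    · rw [show (2 : ℕ) ^ (2 + 1) = 4 + 4 by rfl, pow_add, hk4, E.zz]
  have hr : E.r ∈ zpowers k := by
    rcases hkk with h | h
    · exact h ▸ mul_mem (mem_zpowers k) (mem_zpowers k)
    · have := inv_mem (mul_mem (mem_zpowers k) (mem_zpowers k))
      rwa [h, ← E.r_inv, inv_inv] at this
  have hsub : zpowers E.r ≤ zpowers k := zpowers_le.2 hr
  have hz : E.z ∈ zpowers k := hsub E.z_mem_zpowers_r
  have hall : ∀ x ∈ E.S, x ∈ zpowers k := by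
    by_contra hne
    obtain ⟨h, hh, hh', -, hc⟩ := E.grow (L := zpowers k) le_rfl (fun x => E.τ_mem_S) (fun x hx => by
        obtain ⟨a, rfl⟩ := mem_zpowers_iff.1 hx
        rw [map_zpow, hτk]
        exact zpow_mem (mul_mem (mem_zpowers k) hz) a)
      (lt_of_le_of_ne (zpowers_le.2 hk) fun e => hne fun x hx => e ▸ hx)
    obtain ⟨i, hi⟩ := mem_zpowers_iff.1 hc
    have h5 : E.τ k = k ^ (5 : ℤ) := by
      rw [hτk, ← hk4, ← pow_succ']; norm_cast
    have h6 := E.τ_twist h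
    rw [← hi, map_zpow, h5, ← zpow_mul, ← zpow_neg] at h6
    have h7 := zpow_cancel h6
    rw [hord] at h7
    obtain ⟨a, ha⟩ : (4 : ℤ) ∣ i := by omega
    have hc' : h⁻¹ * E.τ h ∈ zpowers E.r := by
      rw [← hi, ha, zpow_mul]
      refine zpow_mem ?_ a
      rw [show k ^ (4 : ℤ) = E.z by rw [← hk4]; norm_cast]
      exact E.z_mem_zpowers_r
    rcases E.twist_cases hh hc' with e | e
    · exact hh' (hsub (E.hfixed h (E.mem_S.1 hh).1 (E.mem_S.1 hh).2 (E.τ_apply h ▸ e)))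
    · have := mul_mem (mem_zpowers k) (hsub (E.coset_K hk hh hτk e))
      rw [mul_inv_cancel_left] at this
      exact hh' this
  intro x hx hx2
  rcases sq_one_of_mem_zpowers (hall x hx) (n := 4) hord hx2 with e | e
  · exact Or.inl e
  · exact Or.inr (e.trans hk4)

variable (hq : ∀ k ∈ E.S, E.τ k = k * E.z → k * k = E.z)
include hq

theorem rkr {k : G} (hk : k ∈ E.S) (h : E.τ k = k * E.z) : E.r * k * E.r⁻¹ = k⁻¹ := by
  have h1 := hq (k * E.r) (mul_mem hk E.r_mem) (by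
    rw [map_mul, h, E.τ_r, mul_assoc, mul_assoc, E.z_central E.r_mem])
  have h2 : E.r * k = k⁻¹ * E.z * E.r⁻¹ := by rw [← h1]; group
  rw [h2, mul_assoc, mul_assoc, ← mul_inv_rev, show E.r * E.r = E.z from rfl, E.z_inv, E.zz,
    mul_one]

omit hq in
/-- Elements of `A` with image near the centre modulo `z`. -/
theorem exists_near_central :
    ∃ h ∈ E.S, h ∉ zpowers E.z ∧ h⁻¹ * E.τ h ∈ zpowers E.z ∧
      ∀ s ∈ E.S, h * s * h⁻¹ * s⁻¹ ∈ zpowers E.z := by
  have hcomm : ∀ w ∈ zpowers E.z, ∀ s ∈ E.S, s * w * s⁻¹ = w := fun w hw s hs => by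
    rw [(E.zpow_z_commute hs hw).eq, mul_inv_cancel_right]
  let T : Subgroup G :=
    { carrier := {x | x ∈ E.S ∧ ∀ s ∈ E.S, x * s * x⁻¹ * s⁻¹ ∈ zpowers E.z}
      one_mem' := ⟨one_mem _, fun s _ => by simp⟩
      mul_mem' := by
        rintro x y ⟨hx, hx'⟩ ⟨hy, hy'⟩
        refine ⟨mul_mem hx hy, fun s hs => ?_⟩
        rw [show x * y * s * (x * y)⁻¹ * s⁻¹ =
          x * (y * s * y⁻¹ * s⁻¹) * x⁻¹ * (x * s * x⁻¹ * s⁻¹) by group,
          hcomm _ (hy' s hs) x hx]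
        exact mul_mem (hy' s hs) (hx' s hs)
      inv_mem' := by
        rintro x ⟨hx, hx'⟩
        refine ⟨inv_mem hx, fun s hs => ?_⟩
        rw [show x⁻¹ * s * x⁻¹⁻¹ * s⁻¹ = x⁻¹ * (x * s * x⁻¹ * s⁻¹)⁻¹ * x⁻¹⁻¹ by group,
          hcomm _ (inv_mem (hx' s hs)) _ (inv_mem hx)]
        exact inv_mem (hx' s hs) }
  have hzT : zpowers E.z ≤ T := zpowers_le.2 ⟨E.z_mem, fun s hs => by
    rw [← E.z_central hs, mul_inv_cancel_right, mul_inv_cancel]; exact one_mem _⟩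
  have hlt : zpowers E.z < T := by
    refine lt_of_le_of_ne hzT fun e => ?_
    have : Fact (Nat.Prime 2) := ⟨Nat.prime_two⟩
    let Z' : Subgroup E.S := zpowers ⟨E.z, E.z_mem⟩
    have : Z'.Normal := ⟨fun w hw s => by
      have hw' : (w : G) ∈ zpowers E.z := by
        obtain ⟨a, rfl⟩ := mem_zpowers_iff.1 hw
        exact mem_zpowers_iff.2 ⟨a, by simp⟩
      rw [show s * w * s⁻¹ = w from Subtype.ext (hcomm _ hw' s s.2)]
      exact hw⟩
    have hmem : ∀ w : E.S, w ∈ Z' ↔ (w : G) ∈ zpowers E.z := fun w => by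
      constructor
      · intro hw
        obtain ⟨a, rfl⟩ := mem_zpowers_iff.1 hw
        exact mem_zpowers_iff.2 ⟨a, by simp⟩
      · intro hw
        obtain ⟨a, ha⟩ := mem_zpowers_iff.1 hw
        exact mem_zpowers_iff.2 ⟨a, Subtype.ext (by simpa using ha)⟩
    have : Nontrivial (E.S ⧸ Z') := ⟨⟨(⟨E.r, E.r_mem⟩ : E.S), 1, fun h => by
      have h1 := (hmem _).1 ((QuotientGroup.eq_one_iff _).1 h)
      rcases E.zpowers_z h1 with h2 | h2
      · exact E.r_ne_one h2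
      · exact E.r_ne_one (mul_left_cancel (a := E.r) (h2.symm.trans (mul_one _).symm))⟩⟩
    have := (E.isPGroup_S.to_quotient Z').center_nontrivial
    obtain ⟨⟨c, hc⟩, hc1⟩ := exists_ne (1 : Subgroup.center (E.S ⧸ Z'))
    induction c using QuotientGroup.induction_on with
    | H x =>
      refine hc1 (Subtype.ext ((QuotientGroup.eq_one_iff _).2 ((hmem x).2 ?_)))
      rw [e]
      refine ⟨x.2, fun s hs => ?_⟩
      have h1 := mem_center_iff.1 hc ((⟨s, hs⟩ : E.S) : E.S ⧸ Z')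
      have h2 : ((x * ⟨s, hs⟩ * x⁻¹ * ⟨s, hs⟩⁻¹ : E.S) : E.S ⧸ Z') = 1 := by
        rw [QuotientGroup.mk_mul, QuotientGroup.mk_mul, QuotientGroup.mk_mul, ← h1,
          QuotientGroup.mk_inv, QuotientGroup.mk_inv, mul_inv_cancel_right, mul_inv_cancel]
      exact (hmem _).1 ((QuotientGroup.eq_one_iff _).1 h2)
  obtain ⟨h, hh, hh', -, hc⟩ := E.grow (L := zpowers E.z) (T := T) (fun x hx => hx.1)
    (fun x hx => ⟨E.τ_mem_S hx.1, fun s hs => by
      have h1 := hx.2 _ (E.τ_mem_S hs)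
      rw [show E.τ x * s * (E.τ x)⁻¹ * s⁻¹ = E.τ (x * E.τ s * x⁻¹ * (E.τ s)⁻¹) by
        simp only [map_mul, map_inv, E.τ_τ]]
      rcases E.zpowers_z h1 with e | e <;> rw [e]
      · rw [map_one]; exact one_mem _
      · rw [E.τ_z]; exact mem_zpowers _⟩)
    (fun x hx => by
      rcases E.zpowers_z hx with rfl | rfl
      · rw [map_one]; exact one_mem _
      · rw [E.τ_z]; exact mem_zpowers _) hlt
  exact ⟨h, hh.1, hh', hc, hh.2⟩

/-- `<r>` is normal. -/
theorem uniq_of_r_normal {k : G} (hk : k ∈ E.S) (hτk : E.τ k = k * E.z)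
    (hr : ∀ s ∈ E.S, E.r * s * E.r⁻¹ * s⁻¹ ∈ zpowers E.z) : E.Uniq := by
  have hC : E.S ⊓ centralizer ({E.r} : Set G) ≤ zpowers E.r := by
    by_contra hne
    obtain ⟨h, hh, hh', -, hc⟩ := E.grow (L := zpowers E.r) (T := E.S ⊓ centralizer ({E.r} : Set G))
      inf_le_left (fun x hx => mem_inf.2 ⟨E.τ_mem_S (mem_inf.1 hx).1, by
        rw [mem_centralizer_singleton_iff]
        have := congrArg E.τ (mem_centralizer_singleton_iff.1 (mem_inf.1 hx).2)
        rwa [map_mul, map_mul, E.τ_r] at this⟩)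
      (fun x => E.τ_zpowers_r)
      (lt_of_le_not_ge (le_inf (zpowers_le.2 E.r_mem)
        (zpowers_le.2 (mem_centralizer_singleton_iff.2 rfl))) hne)
    obtain ⟨hhS, hhC⟩ := mem_inf.1 hh
    rcases E.twist_cases hhS hc with e | e
    · exact hh' (E.hfixed h (E.mem_S.1 hhS).1 (E.mem_S.1 hhS).2 (E.τ_apply h ▸ e))
    · have h1 := E.rkr hq hhS e
      rw [← (mem_centralizer_singleton_iff.1 hhC), mul_inv_cancel_right] at h1
      exact E.z_ne_one (by rw [← hq h hhS e]; exact mul_eq_one_iff_eq_inv.2 h1)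
  intro x hx hx2
  by_cases hc : E.r * x * E.r⁻¹ * x⁻¹ = 1
  · have hxC : x ∈ E.S ⊓ centralizer ({E.r} : Set G) := mem_inf.2 ⟨hx,
      mem_centralizer_singleton_iff.2 (by
        rw [mul_inv_eq_one, mul_inv_eq_iff_eq_mul] at hc; exact hc.symm)⟩
    obtain ⟨a, ha⟩ := mem_zpowers_iff.1 (hC hxC)
    exact E.sq_one_fixed hx (by rw [← ha, map_zpow, E.τ_r]) hx2
  exfalso
  have hcz : E.r * x * E.r⁻¹ * x⁻¹ = E.z := (E.zpowers_z (hr x hx)).resolve_left hc
  have h1 := E.rkr hq hk hτk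
  rw [E.inv_sqrt (hq k hk hτk)] at h1
  have hy : k⁻¹ * x ∈ E.S ⊓ centralizer ({E.r} : Set G) := by
    refine mem_inf.2 ⟨mul_mem (inv_mem hk) hx, mem_centralizer_singleton_iff.2 ?_⟩
    have h2 : E.r * x * E.r⁻¹ = E.z * x := by rw [← hcz]; group
    have h3 : E.r * k⁻¹ * E.r⁻¹ = k⁻¹ * E.z := by
      rw [show E.r * k⁻¹ * E.r⁻¹ = (E.r * k * E.r⁻¹)⁻¹ by group, h1, mul_inv_rev, E.z_inv,
        E.z_central (inv_mem hk)]
    have h4 : E.r * (k⁻¹ * x) * E.r⁻¹ = k⁻¹ * x := by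
      rw [show E.r * (k⁻¹ * x) * E.r⁻¹ = (E.r * k⁻¹ * E.r⁻¹) * (E.r * x * E.r⁻¹) by group, h2, h3,
        mul_assoc, ← mul_assoc E.z, E.zz, one_mul]
    rw [mul_inv_eq_iff_eq_mul] at h4
    exact h4.symm
  obtain ⟨a, ha⟩ := mem_zpowers_iff.1 (hC hy)
  have h5 := hq x hx (by
    rw [show x = k * E.r ^ a by rw [ha, mul_inv_cancel_left], map_mul, map_zpow, hτk, E.τ_r,
      mul_assoc, mul_assoc, E.z_central (zpow_mem E.r_mem a)])
  exact E.z_ne_one (h5.symm.trans hx2)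

/-- The centralizer of `k` in `S` is cyclic. -/
theorem centralizer_cyclic {k : G} (hk : k ∈ E.S) (hτk : E.τ k = k * E.z) :
    ∃ (m : G) (N : ℕ) (j : ℤ), m ∈ E.S ∧ orderOf m = 2 * 2 ^ (N + 1) ∧ k ∈ zpowers m ∧
      E.τ m = m ^ j ∧ (4 : ℤ) ∣ j + 1 ∧ ∀ x ∈ E.S, Commute x k → x ∈ zpowers m := by
  have : Fact (Nat.Prime 2) := ⟨Nat.prime_two⟩
  have hkk := hq k hk hτk
  have hk4 := E.orderOf_sqrt hkk
  have hkinv : E.τ k = k⁻¹ := by rw [hτk, ← E.inv_sqrt hkk]
  obtain ⟨m, ⟨hm, hkm, hσm⟩, hmax⟩ :=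
    (Set.toFinite {m : G | m ∈ E.S ∧ k ∈ zpowers m ∧ E.τ m ∈ zpowers m}).exists_maximalFor
      (fun m : G => orderOf m) _ ⟨k, hk, mem_zpowers k, hkinv ▸ inv_mem (mem_zpowers k)⟩
  have hzm : E.z ∈ zpowers m := hkk ▸ mul_mem hkm hkm
  obtain ⟨N, hN⟩ : ∃ N, orderOf m = 2 * 2 ^ (N + 1) := by
    obtain ⟨n, hn⟩ := IsPGroup.iff_orderOf.1 E.isPGroup_S ⟨m, hm⟩
    rw [orderOf_mk] at hn
    have h4 : 4 ∣ orderOf m := hk4 ▸ orderOf_dvd_of_mem_zpowers hkm
    rw [hn] at h4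
    rcases n with _ | _ | n
    · norm_num at h4
    · norm_num at h4
    · exact ⟨n, by rw [hn, pow_succ]; ring⟩
  have hcop : ∀ i : ℤ, Odd i → IsCoprime i (orderOf m : ℤ) := fun i hi => by
    rw [hN, ← pow_succ']
    exact isCoprime_of_odd hi _
  obtain ⟨a, ha⟩ := mem_zpowers_iff.1 hkm
  have hexp : ∀ (e c : ℤ) (f : G ≃* G), f m = m ^ e → f k = k ^ c → (4 : ℤ) ∣ e - c := by
    intro e c f he hc
    rw [← ha, map_zpow, he, ← zpow_mul, mul_comm, zpow_mul, ha] at hc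
    have := zpow_cancel hc
    rwa [hk4] at this
  obtain ⟨j, hj⟩ := mem_zpowers_iff.1 hσm
  have hj4 : (4 : ℤ) ∣ j + 1 := by
    simpa using hexp j (-1) E.τ hj.symm (by rw [hkinv, zpow_neg_one])
  refine ⟨m, N, j, hm, hN, hkm, hj.symm, hj4, ?_⟩
  by_contra hne
  have hfixC : ∀ x ∈ E.S, Commute x k → E.τ x = x → x ∈ zpowers m := by
    intro x hx hxk hτx
    have hrk : ∀ y, Commute y k → y ≠ E.r ∧ y ≠ E.r * E.z := by
      have h0 : ¬ Commute E.r k := fun h => by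
        have h1 := E.rkr hq hk hτk
        rw [h.eq, mul_inv_cancel_right] at h1
        exact E.z_ne_one (by rw [← hkk]; exact mul_eq_one_iff_eq_inv.2 h1)
      refine fun y hy => ⟨fun e => h0 (e ▸ hy), fun e => h0 ?_⟩
      rw [e, ← E.r_inv] at hy
      simpa using hy.inv_left
    rcases E.fixed hx hτx with rfl | rfl | rfl | rfl
    · exact one_mem _
    · exact absurd rfl (hrk _ hxk).1
    · exact hzm
    · exact absurd rfl (hrk _ hxk).2
  obtain ⟨h, hh, hh', hhN, hc⟩ := E.grow (L := zpowers m)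
    (T := E.S ⊓ centralizer ({k} : Set G)) inf_le_left
    (fun x hx => mem_inf.2 ⟨E.τ_mem_S (mem_inf.1 hx).1, by
      have h1 : Commute x k := mem_centralizer_singleton_iff.1 (mem_inf.1 hx).2
      have h2 := h1.map E.τ.toMonoidHom
      rw [mem_centralizer_singleton_iff]
      change Commute (E.τ x) k
      simpa [hkinv] using h2.inv_right⟩)
    (fun x hx => by
      obtain ⟨b, rfl⟩ := mem_zpowers_iff.1 hx
      rw [map_zpow, ← hj, ← zpow_mul]
      exact zpow_mem (mem_zpowers m) _)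
    (lt_of_le_not_ge (le_inf (zpowers_le.2 hm) (zpowers_le.2 (mem_centralizer_singleton_iff.2
        (by rw [← ha]; exact (Commute.self_zpow m a)))))
      fun hle => hne fun x hx hxk => hle (mem_inf.2 ⟨hx, mem_centralizer_singleton_iff.2 hxk⟩))
  obtain ⟨hhS, hhk⟩ := mem_inf.1 hh
  replace hhk : Commute h k := mem_centralizer_singleton_iff.1 hhk
  have hcomm : ∀ b : ℤ, Commute (h * m ^ b) k := fun b =>
    hhk.mul_left (by rw [← ha]; exact (Commute.zpow_zpow_self m b a))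
  obtain ⟨i, hi⟩ := mem_zpowers_iff.1 hc
  rcases Int.even_or_odd' i with ⟨i', hi' | hi'⟩
  · obtain ⟨o, ho⟩ : ∃ o, j - 1 = 2 * o ∧ Odd o := by
      obtain ⟨d, hd⟩ := hj4
      exact ⟨2 * d - 1, by omega, ⟨d - 1, by ring⟩⟩
    obtain ⟨u, v, huv⟩ := hcop o ho.2
    refine hh' ((Subgroup.mul_mem_cancel_right _ (zpow_mem (mem_zpowers m) (-(i' * u)))).1 ?_)
    refine hfixC _ (mul_mem hhS (zpow_mem hm _)) (hcomm _) ?_
    rw [map_mul, map_zpow, ← hj, ← zpow_mul, show E.τ h = h * m ^ i by rw [hi]; group, mul_assoc,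
      ← zpow_add]
    congr 1
    have e : i + j * -(i' * u) = (orderOf m : ℤ) * (2 * i' * v) + -(i' * u) := by
      rw [hi', show j = 2 * o + 1 by linarith [ho.1]]
      linear_combination (2 * i') * huv.symm
    rw [e, zpow_add, zpow_mul, zpow_natCast, pow_orderOf_eq_one, one_zpow, one_mul]
  · obtain ⟨p, hp⟩ : ∃ p, h⁻¹ * E.τ h = p := ⟨_, rfl⟩
    have hpm : zpowers p = zpowers m := by
      rw [← hp, ← hi]
      exact zpowers_zpow_of_isCoprime (hcop i ⟨i', hi'⟩)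
    have hτh : E.τ h = h * p := by rw [← hp]; group
    have hτp : E.τ p = p⁻¹ := hp ▸ E.τ_twist h
    have hord : orderOf p = orderOf m := by rw [← Nat.card_zpowers, ← Nat.card_zpowers, hpm]
    have hkp : k ∈ zpowers p := hpm ▸ hkm
    obtain ⟨η, hη⟩ : ∃ η : ℤ, p ^ η = h⁻¹ * p * h := mem_zpowers_iff.1 (by
      rw [hpm]
      simpa using (mem_normalizer_iff.1 (inv_mem hhN) p).1 (hpm ▸ mem_zpowers p))
    obtain ⟨b, hb⟩ := mem_zpowers_iff.1 hkp
    have hη4 : (4 : ℤ) ∣ η - 1 := by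
      have hc : (h⁻¹ * p * h) ^ b = k := by
        rw [show (h⁻¹ * p * h) ^ b = h⁻¹ * p ^ b * h by
          simpa using (conj_zpow (a := h⁻¹) (b := p) (i := b)), hb, mul_assoc, ← hhk.eq,
          inv_mul_cancel_left]
      rw [← hη, ← zpow_mul, mul_comm, zpow_mul, hb] at hc
      have := zpow_cancel (b := (1 : ℤ)) (hc.trans (zpow_one k).symm)
      rwa [hk4] at this
    obtain ⟨d, hd⟩ := hη4
    have hmhm : ∀ x : ℤ, h * p * h * p ^ x = h * h * p ^ (η + x) := by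
      intro x; rw [zpow_add, hη]; group
    have hx : E.τ (h * h * p ^ (2 * d + 1)) = h * h * p ^ (2 * d + 1) := by
      rw [map_mul, map_mul, map_zpow, hτh, hτp, inv_zpow', ← mul_assoc (h * p) h p,
        mul_assoc (h * p * h) p, ← zpow_one_add, hmhm]
      congr 2
      linarith
    have hpS : ∀ x : ℤ, p ^ x ∈ E.S := fun x =>
      zpow_mem (hp ▸ mul_mem (inv_mem hhS) (E.τ_mem_S hhS)) x
    obtain ⟨l, hl⟩ := mem_zpowers_iff.1 (show h * h ∈ zpowers p by
      rw [hpm]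
      refine (Subgroup.mul_mem_cancel_right _ (hpm ▸ zpow_mem (mem_zpowers p) (2 * d + 1))).1 ?_
      refine hfixC _ (mul_mem (mul_mem hhS hhS) (hpS _)) ((hhk.mul_left hhk).mul_left ?_) hx
      rw [← hb]; exact Commute.zpow_zpow_self p _ _)
    have h1 : E.τ (p ^ l) = E.τ (h * h) := by rw [hl]
    rw [map_zpow, hτp, inv_zpow', map_mul, hτh] at h1
    have h2 : p ^ (-l) = p ^ (l + (η + 1)) := by
      rw [zpow_add, hl, h1, ← hmhm, zpow_one]
      group
    have h3 := zpow_cancel h2.symm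
    rw [hord, hN] at h3
    have hlodd : Odd l := by
      obtain ⟨c, hc3⟩ := h3
      rw [show ((2 * 2 ^ (N + 1) : ℕ) : ℤ) * c = 4 * (2 ^ N * c) by push_cast; ring] at hc3
      rcases Int.even_or_odd' l with ⟨l', hl' | hl'⟩
      · exfalso; omega
      · exact ⟨l', hl'⟩
    have hle : zpowers p ≤ zpowers h := by
      rw [← zpowers_zpow_of_isCoprime (m := p) (i := l) (hord ▸ hcop l hlodd)]
      exact zpowers_le.2 (hl ▸ mul_mem (mem_zpowers h) (mem_zpowers h))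
    have hlt : Nat.card (zpowers p) < Nat.card (zpowers h) :=
      Set.Finite.card_lt_card (Set.toFinite _)
        ⟨hle, fun h' => hh' (hpm ▸ h' (mem_zpowers h))⟩
    rw [Nat.card_zpowers, Nat.card_zpowers, hord] at hlt
    have := hmax (j := h) ⟨hhS, hle hkp, hτh ▸ mul_mem (mem_zpowers h) (hle (mem_zpowers p))⟩
      hlt.le
    simp only at this
    omega

omit hq in
/-- The `2`-subgroups of the centralizer of `k`. -/
theorem centralizer_k_max {k : G} (hk : k ∈ E.S) (hτk : E.τ k = k * E.z)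
    (hkn : ∀ s ∈ E.S, k * s * k⁻¹ * s⁻¹ ∈ zpowers E.z) (hrk : E.r * k ≠ k * E.r)
    (hkk : k * k = E.z) {V : Subgroup G} (hV : IsPGroup 2 V)
    (hVC : V ≤ centralizer ({k} : Set G))
    (hle : (E.P : Subgroup G) ⊓ centralizer ({k} : Set G) ≤ V) :
    V ≤ (E.P : Subgroup G) ⊓ centralizer ({k} : Set G) := by
  have : Fact (Nat.Prime 2) := ⟨Nat.prime_two⟩
  set W := (E.P : Subgroup G) ⊓ centralizer ({k} : Set G) with hW
  have hkP : k ∈ (E.P : Subgroup G) := (E.mem_S.1 hk).1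
  have hconj : ∀ x ∈ (E.P : Subgroup G), x * k * x⁻¹ = k ∨ x * k * x⁻¹ = k * E.z := by
    have hS : ∀ s ∈ E.S, s * k * s⁻¹ = k ∨ s * k * s⁻¹ = k * E.z := by
      intro s hs
      have h0 := hkn s⁻¹ (inv_mem hs)
      rw [show s * k * s⁻¹ = s * (k * s⁻¹ * k⁻¹ * s⁻¹⁻¹) * s⁻¹ * k by group,
        (E.zpow_z_commute hs h0).eq, mul_inv_cancel_right]
      rcases E.zpowers_z h0 with e | e <;> rw [e]
      · exact Or.inl (one_mul k)
      · exact Or.inr (E.z_central hk).symm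
    intro x hx
    rcases E.cover x with h | h
    · exact hS x (E.mem_S.2 ⟨hx, h⟩)
    · have hy := hS _ (E.mem_S.2 ⟨mul_mem E.htP hx, h⟩)
      have he : x * k * x⁻¹ = E.τ (E.t * x * k * (E.t * x)⁻¹) := by
        rw [E.τ_apply, mul_inv_rev, E.t_inv]
        simp only [← mul_assoc, E.htt, one_mul]
        rw [mul_assoc (x * k * x⁻¹), E.htt, mul_one]
      rw [he]
      rcases hy with e | e <;> rw [e]
      · exact Or.inr hτk
      · left; rw [map_mul, hτk, E.τ_z, mul_assoc, E.zz, mul_one]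
  have hcard : Nat.card (E.P : Subgroup G) ≤ 2 * Nat.card W := by
    have hidx : W.relIndex (E.P : Subgroup G) ∣ 2 := by
      by_cases hex : ∃ a ∈ (E.P : Subgroup G), a * k * a⁻¹ = k * E.z
      · obtain ⟨a, ha, hak⟩ := hex
        refine relIndex_dvd_two_iff.2 ⟨a, ha, fun b hb => ?_⟩
        rcases hconj b hb with e | e
        · exact Or.inr (mem_inf.2 ⟨hb, mem_centralizer_singleton_iff.2
            (mul_inv_eq_iff_eq_mul.1 e)⟩)
        · refine Or.inl (mem_inf.2 ⟨mul_mem hb ha, mem_centralizer_singleton_iff.2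
            (mul_inv_eq_iff_eq_mul.1 ?_)⟩)
          rw [show b * a * k * (b * a)⁻¹ = b * (a * k * a⁻¹) * b⁻¹ by group, hak,
            show b * (k * E.z) * b⁻¹ = b * k * b⁻¹ * (b * E.z * b⁻¹) by group, e]
          have hbz : b * E.z * b⁻¹ = E.z := by
            rw [(E.z_commute_P hb).eq, mul_inv_cancel_right]
          rw [hbz, mul_assoc, E.zz, mul_one]
      · refine relIndex_dvd_two_iff.2 ⟨1, one_mem _, fun b hb => Or.inr (mem_inf.2 ⟨hb,
          mem_centralizer_singleton_iff.2 (mul_inv_eq_iff_eq_mul.1 ?_)⟩)⟩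
        exact (hconj b hb).resolve_right fun e => hex ⟨b, hb, e⟩
    have h1 := (W.subgroupOf (E.P : Subgroup G)).card_mul_index
    rw [Nat.card_congr (subgroupOfEquivOfLe (show W ≤ (E.P : Subgroup G) from inf_le_left)).toEquiv]
      at h1
    have h2 : W.relIndex (E.P : Subgroup G) ≤ 2 := Nat.le_of_dvd two_pos hidx
    calc Nat.card (E.P : Subgroup G) = Nat.card W * W.relIndex (E.P : Subgroup G) := h1.symm
      _ ≤ Nat.card W * 2 := Nat.mul_le_mul_left _ h2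
      _ = _ := mul_comm _ _
  rcases hle.eq_or_lt with e | hlt
  · exact e.ge
  exfalso
  obtain ⟨P', hP'⟩ := hV.exists_le_sylow
  have hVP : V = P' := by
    refine eq_of_le_of_card_ge hP' ?_
    have hlt' : Nat.card W < Nat.card V := Set.Finite.card_lt_card (Set.toFinite _) hlt
    obtain ⟨a, ha⟩ := IsPGroup.iff_card.1 hV
    obtain ⟨b, hb⟩ := IsPGroup.iff_card.1 (E.P.2.to_le (inf_le_left : W ≤ _))
    rw [Sylow.card_eq_multiplicity P', ← Sylow.card_eq_multiplicity E.P]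
    refine hcard.trans ?_
    rw [ha, hb] at hlt' ⊢
    rw [← pow_succ']
    exact Nat.pow_le_pow_right two_pos ((Nat.pow_lt_pow_iff_right Nat.one_lt_two).1 hlt')
  obtain ⟨c, hc⟩ := MulAction.exists_smul_eq G P' E.P
  have hmem : ∀ v ∈ V, c * v * c⁻¹ ∈ (E.P : Subgroup G) := by
    intro v hv
    rw [← hc]
    exact ⟨v, hVP ▸ hv, rfl⟩
  have hk' : c * k * c⁻¹ ∈ (E.P : Subgroup G) :=
    hmem k (hle (mem_inf.2 ⟨hkP, mem_centralizer_singleton_iff.2 rfl⟩))
  have hcen : ∀ p ∈ (E.P : Subgroup G), p * (c * k * c⁻¹) = c * k * c⁻¹ * p := by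
    intro p hp
    rw [← hc] at hp
    obtain ⟨v, hv, rfl⟩ := hp
    have hvk : v * k = k * v := mem_centralizer_singleton_iff.1 (hVC (hVP ▸ hv))
    change c * v * c⁻¹ * (c * k * c⁻¹) = c * k * c⁻¹ * (c * v * c⁻¹)
    rw [show c * v * c⁻¹ * (c * k * c⁻¹) = c * (v * k) * c⁻¹ by group, hvk]
    group
  have hk'A : c * k * c⁻¹ ∈ E.A := E.normal.conj_mem _ (E.mem_S.1 hk).2 c
  have hfix := E.fixed (E.mem_S.2 ⟨hk', hk'A⟩) (by
    rw [E.τ_apply, hcen _ E.htP, mul_assoc, E.htt, mul_one])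
  have hk'k : (c * k * c⁻¹) * (c * k * c⁻¹) = c * E.z * c⁻¹ := by rw [← hkk]; group
  have hne : c * E.z * c⁻¹ ≠ 1 := fun e => E.z_ne_one (conj_eq_one_iff.1 e)
  have hcomm := hcen k hkP
  rcases hfix with e | e | e | e <;> rw [e] at hk'k hcomm
  · exact hne (by rw [← hk'k, one_mul])
  · exact hrk hcomm.symm
  · exact hne (by rw [← hk'k, E.zz])
  · rw [← E.r_inv] at hcomm
    have h : Commute k E.r⁻¹ := hcomm
    exact hrk (by simpa using h.inv_right.symm.eq)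

end Env

end CfsgLib.SemisimpleFour
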