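import Cfsg.Agent.Lib.Invol.SemisimpleFour.CaseQ

/-!
The semidihedral Sylow subgroup is impossible.
-/

set_option autoImplicit false
set_option linter.unusedSectionVars false

namespace CfsgLib.SemisimpleFour

open Subgroup

variable {G : Type*} [Group G] [Finite G]

namespace Env

variable (E : Env G)

theorem zpow_eq_of_dvd {m : G} {a b : ℤ} (h : (orderOf m : ℤ) ∣ a - b) : m ^ a = m ^ b := by
  rw [← div_eq_one, div_eq_mul_inv, ← zpow_sub, ← orderOf_dvd_iff_zpow_eq_one]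
  exact h

/-- An exponent squaring to one. -/
theorem exponent_cases {N : ℕ} {i : ℤ} (h4 : (4 : ℤ) ∣ i + 1)
    (hsq : ((2 * 2 ^ (N + 1) : ℕ) : ℤ) ∣ i * i - 1) :
    ((2 * 2 ^ (N + 1) : ℕ) : ℤ) ∣ i + 1 ∨
      (((2 * 2 ^ (N + 1) : ℕ) : ℤ) ∣ i + 1 - 2 ^ (N + 1) ∧ 1 ≤ N) := by
  obtain ⟨d, hd⟩ := h4
  obtain ⟨c, hc⟩ : (2 ^ (N + 1) : ℤ) ∣ i + 1 := by
    have ho : IsCoprime (2 * d - 1) ((2 ^ (N + 1) : ℕ) : ℤ) :=
      isCoprime_of_odd ⟨d - 1, by ring⟩ _
    push_cast at ho hsq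
    refine ho.symm.dvd_of_dvd_mul_left ?_
    obtain ⟨e, he⟩ := hsq
    refine ⟨e, mul_left_cancel₀ (two_ne_zero (α := ℤ)) ?_⟩
    linear_combination he - (i + 1) * hd
  rcases Int.even_or_odd' c with ⟨c', rfl | rfl⟩
  · exact Or.inl ⟨c', by push_cast; linear_combination hc⟩
  · refine Or.inr ⟨⟨c', by push_cast; linear_combination hc⟩, ?_⟩
    rcases Nat.eq_zero_or_pos N with rfl | h
    · exfalso; omega
    · exact h

variable (hq : ∀ k ∈ E.S, E.τ k = k * E.z → k * k = E.z)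
include hq

/-- The semidihedral case is absurd. -/
theorem sd_absurd {k m : G} {N : ℕ} {i j : ℤ} (hk : k ∈ E.S) (hτk : E.τ k = k * E.z)
    (hkn : ∀ s ∈ E.S, k * s * k⁻¹ * s⁻¹ ∈ zpowers E.z) (hm : m ∈ E.S)
    (hord : orderOf m = 2 * 2 ^ (N + 1)) (hkm : k ∈ zpowers m) (hj : E.τ m = m ^ j)
    (hj4 : (4 : ℤ) ∣ j + 1) (hC : ∀ x ∈ E.S, Commute x k → x ∈ zpowers m)
    (hi : E.r * m * E.r⁻¹ = m ^ i)
    (hi1 : ((2 * 2 ^ (N + 1) : ℕ) : ℤ) ∣ i + 1 - 2 ^ (N + 1)) (hN : 1 ≤ N)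
    (hcov : ∀ x ∈ E.S, x ∈ zpowers m ∨ x * E.r⁻¹ ∈ zpowers m) : False := by
  have hkk := hq k hk hτk
  have hk4 := E.orderOf_sqrt hkk
  have hkinv := E.inv_sqrt hkk
  have hrk : E.r * k ≠ k * E.r := fun h => by
    have h1 := E.rkr hq hk hτk
    rw [h, mul_inv_cancel_right] at h1
    exact E.z_ne_one (by rw [← hkk]; exact mul_eq_one_iff_eq_inv.2 h1)
  have hrm : ∀ a : ℤ, E.r * m ^ a = m ^ (i * a) * E.r := by
    intro a
    rw [zpow_mul, ← hi, conj_zpow, inv_mul_cancel_right]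
  have hzm : E.z ∈ zpowers m := hkk ▸ mul_mem hkm hkm
  have hz : E.z = m ^ (2 ^ (N + 1) : ℤ) := by
    have := (sq_one_of_mem_zpowers hzm (n := 2 ^ (N + 1)) hord E.zz).resolve_left E.z_ne_one
    rw [this]
    exact (zpow_natCast m _).symm.trans (by push_cast; rfl)
  have hodd : Odd i := by
    obtain ⟨c, hc⟩ := hi1
    exact ⟨(2 ^ (N + 1) : ℤ) * c + 2 ^ N - 1, by
      push_cast at hc
      rw [pow_succ] at hc ⊢
      linarith⟩
  have heven : Even (2 ^ (N + 1) : ℤ) := ⟨2 ^ N, by ring⟩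
  let D : Subgroup G :=
    { carrier := {x | (∃ a : ℤ, x = m ^ (2 * a)) ∨ ∃ a : ℤ, x = m ^ (2 * a + 1) * E.r}
      one_mem' := Or.inl ⟨0, by simp⟩
      mul_mem' := by
        rintro x y (⟨a, rfl⟩ | ⟨a, rfl⟩) (⟨b, rfl⟩ | ⟨b, rfl⟩)
        · exact Or.inl ⟨a + b, by rw [← zpow_add]; congr 1; ring⟩
        · exact Or.inr ⟨a + b, by rw [← mul_assoc, ← zpow_add]; congr 2; ring⟩
        · exact Or.inr ⟨a + i * b, by
            rw [mul_assoc, hrm, ← mul_assoc, ← zpow_add]; congr 2; ring⟩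
        · obtain ⟨e, he⟩ : Even ((2 * a + 1) + i * (2 * b + 1) + 2 ^ (N + 1)) := by
            refine Even.add ?_ heven
            exact (odd_two_mul_add_one a).add_odd (hodd.mul (odd_two_mul_add_one b))
          refine Or.inl ⟨e, ?_⟩
          rw [← mul_assoc, mul_assoc (m ^ (2 * a + 1)) E.r, hrm, ← mul_assoc, mul_assoc _ E.r E.r,
            show E.r * E.r = E.z from rfl, hz, ← zpow_add, ← zpow_add, he, two_mul]
      inv_mem' := by
        rintro x (⟨a, rfl⟩ | ⟨a, rfl⟩)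
        · exact Or.inl ⟨-a, by rw [← zpow_neg]; congr 1; ring⟩
        · obtain ⟨e, he⟩ : Odd (i * -(2 * a + 1) + i * 2 ^ (N + 1)) := by
            refine Odd.add_even (hodd.mul (odd_two_mul_add_one a).neg) (heven.mul_left i)
          refine Or.inr ⟨e, ?_⟩
          rw [mul_inv_rev, ← zpow_neg, E.r_inv, mul_assoc, ← (E.z_commute (zpow_mem hm _)).eq, hz,
            ← zpow_add, hrm, mul_add, he] }
  have hDS : D ≤ E.S := by
    rintro x (⟨a, rfl⟩ | ⟨a, rfl⟩)
    · exact zpow_mem hm _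
    · exact mul_mem (zpow_mem hm _) E.r_mem
  have hrnotm : ∀ a : ℤ, m ^ a ≠ E.r := by
    intro a h
    obtain ⟨b, hb⟩ := mem_zpowers_iff.1 hkm
    exact hrk (by rw [← h, ← hb]; exact (Commute.zpow_zpow_self m a b).eq)
  have hrD : E.r ∉ D := by
    rintro (⟨a, ha⟩ | ⟨a, ha⟩)
    · exact hrnotm _ ha.symm
    · have h1 : m ^ (2 * a + 1) = 1 := mul_eq_right.1 ha.symm
      obtain ⟨c, hc⟩ := orderOf_dvd_iff_zpow_eq_one.2 h1
      rw [hord] at hc
      push_cast at hc
      have : (2 * a + 1) = 2 * (2 ^ (N + 1) * c) := by rw [hc]; ring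
      omega
  -- squares in the coset of `r`
  have hsq : ∀ a : ℤ, (m ^ a * E.r) * (m ^ a * E.r) = m ^ (a * (1 + i) + 2 ^ (N + 1)) := by
    intro a
    rw [← mul_assoc, mul_assoc (m ^ a) E.r, hrm, ← mul_assoc, mul_assoc _ E.r E.r,
      show E.r * E.r = E.z from rfl, hz, ← zpow_add, ← zpow_add]
    congr 1; ring
  have hcop : ∀ a : ℤ, Even a → ¬ (orderOf m : ℤ) ∣ a * (1 + i) + 2 ^ (N + 1) := by
    rintro a ⟨b, rfl⟩ ⟨e, he⟩
    obtain ⟨c, hc⟩ := hi1
    rw [hord] at he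
    push_cast at he hc
    have h2 : (2 ^ (N + 1) : ℤ) * 1 = 2 ^ (N + 1) * (2 * (e - b * (1 + 2 * c))) := by
      linear_combination he - (b + b) * hc
    have := mul_left_cancel₀ (pow_ne_zero _ two_ne_zero) h2
    omega
  obtain ⟨g, hg, hgr⟩ : ∃ g ∈ E.A, g * E.r * g⁻¹ = k ∨ g * E.r * g⁻¹ = k * E.z := by
    by_contra hcon
    refine E.no_thompson hDS E.r_mem hrD (fun b hb => ?_) E.r_mem (fun g hg hgD => ?_)
      (fun g hg e he hgS => ?_)
    · rcases hcov b hb with h | h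
      · obtain ⟨a, rfl⟩ := mem_zpowers_iff.1 h
        rcases Int.even_or_odd' a with ⟨a', rfl | rfl⟩
        · exact Or.inr (Or.inl ⟨a', rfl⟩)
        · exact Or.inl (Or.inr ⟨a', rfl⟩)
      · obtain ⟨a, ha⟩ := mem_zpowers_iff.1 h
        have hb' : b = m ^ a * E.r := by rw [ha, inv_mul_cancel_right]
        rcases Int.even_or_odd' a with ⟨a', rfl | rfl⟩
        · refine Or.inl (Or.inl ⟨a' + 2 ^ N, ?_⟩)
          rw [hb', mul_assoc, show E.r * E.r = E.z from rfl, hz, ← zpow_add]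
          congr 1; ring
        · exact Or.inr (Or.inr ⟨a', hb'⟩)
    · have hgg : (g⁻¹ * E.r * g) * (g⁻¹ * E.r * g) = g⁻¹ * E.z * g := by
        rw [show E.z = E.r * E.r from rfl]; group
      have hne : g⁻¹ * E.z * g ≠ 1 := fun h => E.z_ne_one (by
        have := congrArg (fun x => g * x * g⁻¹) h
        simpa [mul_assoc] using this)
      rcases hgD with ⟨a, ha⟩ | ⟨a, ha⟩
      · have hx : g⁻¹ * E.r * g ∈ zpowers m := ha ▸ zpow_mem (mem_zpowers m) _
        have hinv : g⁻¹ * E.z * g * (g⁻¹ * E.z * g) = 1 := by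
          calc g⁻¹ * E.z * g * (g⁻¹ * E.z * g) = g⁻¹ * (E.z * E.z) * g := by group
            _ = 1 := by rw [E.zz]; group
        have h1 := (sq_one_of_mem_zpowers (hgg ▸ mul_mem hx hx : g⁻¹ * E.z * g ∈ zpowers m)
          (n := 2 ^ (N + 1)) hord hinv).resolve_left hne
        have h2 : (g⁻¹ * E.r * g) * (g⁻¹ * E.r * g) = k * k := by
          rw [hgg, hkk, h1, hz]
          exact (zpow_natCast m _).symm.trans (by push_cast; rfl)
        obtain ⟨b, hb⟩ := mem_zpowers_iff.1 hkm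
        have hc : Commute (g⁻¹ * E.r * g) k := by
          rw [ha, ← hb]; exact Commute.zpow_zpow_self m _ _
        have h3 : (g⁻¹ * E.r * g * k⁻¹) * (g⁻¹ * E.r * g * k⁻¹) = 1 := by
          rw [hc.inv_right.symm.mul_mul_mul_comm, h2]; group
        refine hcon ⟨g⁻¹, inv_mem hg, ?_⟩
        rw [inv_inv]
        rcases sq_one_of_mem_zpowers (mul_mem hx (inv_mem hkm)) (n := 2 ^ (N + 1)) hord h3 with e | e
        · exact Or.inl (mul_inv_eq_one.1 e)
        · right
          rw [mul_inv_eq_iff_eq_mul] at e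
          rw [e, E.z_central hk, hz]
          congr 1
          exact (zpow_natCast m _).symm.trans (by push_cast; rfl)
      · rw [ha, hsq] at hgg
        refine hne (hgg.symm.trans (orderOf_dvd_iff_zpow_eq_one.1 ?_))
        obtain ⟨c, hc⟩ := hi1
        rw [hord]
        push_cast at hc ⊢
        exact ⟨a + 1 + (2 * a + 1) * c, by linear_combination (2 * a + 1) * hc⟩
    · obtain ⟨e', rfl⟩ : ∃ e', e = e' + 1 := ⟨e - 1, by omega⟩
      have hz' : E.r ^ (2 ^ (e' + 1)) = E.z ∨ E.r ^ (2 ^ (e' + 1)) = 1 := by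
        rw [pow_succ', pow_mul, pow_two, show E.r * E.r = E.z from rfl]
        rcases Nat.eq_zero_or_pos e' with rfl | he'
        · exact Or.inl (pow_one _)
        · refine Or.inr ?_
          obtain ⟨d, hd⟩ := dvd_pow_self 2 he'.ne'
          rw [hd, pow_mul, pow_two, E.zz, one_pow]
      generalize hy : g⁻¹ * E.r ^ (2 ^ (e' + 1)) * g = y at hgS ⊢
      have hy2 : y * y = 1 := by
        rw [← hy]
        rcases hz' with h | h <;> rw [h]
        · calc g⁻¹ * E.z * g * (g⁻¹ * E.z * g) = g⁻¹ * (E.z * E.z) * g := by group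
            _ = 1 := by rw [E.zz]; group
        · group
      rcases hcov y hgS with h | h
      · rcases sq_one_of_mem_zpowers h (n := 2 ^ (N + 1)) hord hy2 with h1 | h1 <;> rw [h1]
        · exact one_mem D
        · refine Or.inl ⟨2 ^ N, ?_⟩
          rw [← zpow_natCast]; congr 1; push_cast; ring
      · obtain ⟨a, ha⟩ := mem_zpowers_iff.1 h
        have hy' : y = m ^ a * E.r := by rw [ha, inv_mul_cancel_right]
        rcases Int.even_or_odd' a with ⟨a', rfl | rfl⟩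
        · rw [hy', hsq] at hy2
          exact absurd (orderOf_dvd_iff_zpow_eq_one.2 hy2) (hcop _ (even_two_mul a'))
        · exact Or.inr ⟨a', hy'⟩
  -- `d = tr`
  obtain ⟨d, hd⟩ : ∃ d, d = E.t * E.r := ⟨_, rfl⟩
  have hdA : d ∉ E.A := fun h => E.htA ((Subgroup.mul_mem_cancel_right _ E.hrA).1 (hd ▸ h))
  have hdP : d ∈ (E.P : Subgroup G) := hd ▸ mul_mem E.htP E.hrP
  have hdconj : ∀ x, d * x * d⁻¹ = E.τ (E.r * x * E.r⁻¹) := fun x => by
    rw [hd, E.τ_apply, mul_inv_rev, E.t_inv]; group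
  have hdd : d * d = E.z := by
    rw [hd, ← mul_assoc, E.hrt]; rfl
  have hdk : Commute d k := by
    refine mul_inv_eq_iff_eq_mul.1 ?_
    rw [hdconj, E.rkr hq hk hτk, hkinv, map_mul, hτk, E.τ_z, mul_assoc, E.zz, mul_one]
  have hdr : Commute d E.r := by
    refine mul_inv_eq_iff_eq_mul.1 ?_
    rw [hdconj, mul_inv_cancel_right, E.τ_r]
  have hdm : d * m * d⁻¹ = m ^ (j * i) := by rw [hdconj, hi, map_zpow, hj, zpow_mul]
  have he : d * m * d⁻¹ = m ∨ d * m * d⁻¹ = m * E.z := by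
    have hjsq : ((2 * 2 ^ (N + 1) : ℕ) : ℤ) ∣ j * j - 1 := by
      have h1 : E.τ (E.τ m) = m := E.τ_τ m
      rw [hj, map_zpow, hj, ← zpow_mul] at h1
      exact hord ▸ zpow_cancel (h1.trans (zpow_one m).symm)
    obtain ⟨c, hc⟩ := hi1
    push_cast at hc
    rw [hdm]
    rcases exponent_cases hj4 hjsq with ⟨c', hc'⟩ | ⟨⟨c', hc'⟩, -⟩ <;> push_cast at hc'
    · right
      rw [hz, ← zpow_one_add]
      refine zpow_eq_of_dvd ?_
      rw [hord]
      push_cast
      refine ⟨-c + c' * i - 1, ?_⟩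
      linear_combination i * hc' - hc
    · left
      conv_rhs => rw [← zpow_one m]
      refine zpow_eq_of_dvd ?_
      rw [hord]
      push_cast
      refine ⟨2 ^ N * (2 * c + 1) * (2 * c' + 1) - c - c' - 1, ?_⟩
      rw [show (2 : ℤ) ^ (N + 1) = 2 * 2 ^ N from pow_succ' 2 N] at hc hc' ⊢
      linear_combination (i : ℤ) * hc' + (2 * (2 : ℤ) ^ N * (2 * c' + 1) - 1) * hc
  set W₀ := (E.P : Subgroup G) ⊓ centralizer ({k} : Set G) with hW₀
  have hgd : g * d * g⁻¹ ∈ centralizer ({k} : Set G) := by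
    rw [mem_centralizer_singleton_iff]
    have h1 : Commute (g * d * g⁻¹) (g * E.r * g⁻¹) := hdr.map (MulAut.conj g).toMonoidHom
    rcases hgr with h | h <;> rw [h] at h1
    · exact h1
    · rw [← hkinv] at h1
      have h2 := h1.inv_right
      rwa [inv_inv] at h2
  have hgd2 : IsPGroup 2 (zpowers (g * d * g⁻¹)) := by
    have h := (E.P.2.to_le (zpowers_le.2 hdP)).map (MulAut.conj g).toMonoidHom
    rwa [MonoidHom.map_zpowers] at h
  obtain ⟨c, hc, hcd⟩ := conj_into (E.P.2.to_le (inf_le_left : W₀ ≤ _)) inf_le_right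
    (fun V hV hVC hle => E.centralizer_k_max hk hτk hkn hrk hkk hV hVC hle) hgd2
    (zpowers_le.2 hgd)
  obtain ⟨f, hf⟩ : ∃ f, f = c * g := ⟨_, rfl⟩
  have hd' := hcd _ (mem_zpowers _)
  rw [show c * (g * d * g⁻¹) * c⁻¹ = f * d * f⁻¹ by rw [hf]; group] at hd'
  obtain ⟨hd'P, hd'k⟩ := mem_inf.1 hd'
  have hck : Commute c k := mem_centralizer_singleton_iff.1 hc
  have hfr : f * E.r * f⁻¹ = k ∨ f * E.r * f⁻¹ = k * E.z := by
    have h : f * E.r * f⁻¹ = c * (g * E.r * g⁻¹) * c⁻¹ := by rw [hf]; group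
    rcases hgr with e | e <;> rw [h, e]
    · left; rw [hck.eq, mul_inv_cancel_right]
    · right
      rw [← hkinv, (hck.inv_right).eq, mul_inv_cancel_right]
  have hfz : f * E.z * f⁻¹ = E.z := by
    rw [show f * E.z * f⁻¹ = (f * E.r * f⁻¹) * (f * E.r * f⁻¹) by
      rw [show E.z = E.r * E.r from rfl]; group]
    rcases hfr with e | e <;> rw [e]
    · exact hkk
    · rw [← hkinv, ← mul_inv_rev, hkk, E.z_inv]
  have hd'A : f * d * f⁻¹ ∉ E.A := fun h => hdA (by
    have := E.normal.conj_mem _ h f⁻¹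
    simpa [mul_assoc] using this)
  obtain ⟨x, hx⟩ : ∃ x, d⁻¹ * (f * d * f⁻¹) = x := ⟨_, rfl⟩
  have hxS : x ∈ E.S := by
    refine E.mem_S.2 ⟨hx ▸ mul_mem (inv_mem hdP) hd'P, hx ▸ ?_⟩
    rw [mul_mem_iff_of_index_two E.index_A]
    exact iff_of_false (fun h => hdA (by simpa using inv_mem h)) hd'A
  obtain ⟨a, ha⟩ := mem_zpowers_iff.1 (hC x hxS (by
    rw [← hx]
    exact hdk.inv_left.mul_left (mem_centralizer_singleton_iff.1 hd'k)))
  have hdx : d * x = f * d * f⁻¹ := by rw [← hx, mul_inv_cancel_left]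
  have hd2 : d * x * (d * x) = E.z := by
    rw [hdx, show f * d * f⁻¹ * (f * d * f⁻¹) = f * (d * d) * f⁻¹ by group, hdd, hfz]
  have hx1 : x = 1 ∨ x = E.z := by
    have h1 : d * x * d⁻¹ * E.z * x = E.z := by
      conv_rhs => rw [← hd2]
      rw [← hdd]; group
    rw [mul_assoc, ← (E.z_commute hxS).eq, ← mul_assoc, mul_eq_right] at h1
    have hdxx : d * x * d⁻¹ = (d * m * d⁻¹) ^ a := by rw [conj_zpow, ha]
    have h2a : (orderOf m : ℤ) ∣ 2 * a := by
      rcases he with e | e <;> rw [hdxx, e] at h1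
      · rw [← ha, ← zpow_add, ← orderOf_dvd_iff_zpow_eq_one] at h1
        rwa [← two_mul] at h1
      · rw [hz, ← zpow_one_add, ← zpow_mul, ← ha, ← zpow_add, ← orderOf_dvd_iff_zpow_eq_one,
          show (1 + (2 : ℤ) ^ (N + 1)) * a + a = 2 * (1 + 2 ^ N) * a by ring, hord] at h1
        rw [hord]
        push_cast at h1 ⊢
        obtain ⟨e', he'⟩ := h1
        have hco : IsCoprime (1 + (2 : ℤ) ^ N) ((2 : ℤ) ^ (N + 1)) := by
          have := isCoprime_of_odd (i := 1 + (2 : ℤ) ^ N) ?_ (N + 1)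
          · push_cast at this; exact this
          · obtain ⟨M, rfl⟩ : ∃ M, N = M + 1 := ⟨N - 1, by omega⟩
            exact ⟨2 ^ M, by ring⟩
        refine mul_dvd_mul_left 2 (hco.symm.dvd_of_dvd_mul_left ⟨e', ?_⟩)
        refine mul_left_cancel₀ (two_ne_zero (α := ℤ)) ?_
        linear_combination he'
    have hxx : x * x = 1 := by
      rw [← ha, ← zpow_add, ← orderOf_dvd_iff_zpow_eq_one, ← two_mul]
      exact h2a
    rcases sq_one_of_mem_zpowers (ha ▸ zpow_mem (mem_zpowers m) a) (n := 2 ^ (N + 1)) hord hxx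
      with e | e
    · exact Or.inl e
    · exact Or.inr (by rw [e, hz]; exact (zpow_natCast m _).symm.trans (by push_cast; rfl))
  obtain ⟨w, hw, hτ'⟩ : ∃ w, (w = k ∨ w = k * E.z) ∧ f * E.t * f⁻¹ = d * w := by
    have h : f * E.t * f⁻¹ = f * d * f⁻¹ * (f * E.r * f⁻¹)⁻¹ := by rw [hd]; group
    have hkz : (k * E.z)⁻¹ = k := by rw [← hkinv, inv_inv]
    rcases hx1 with e | e <;> rw [e] at hdx
    · rw [mul_one] at hdx
      rcases hfr with e' | e' <;> rw [h, e', ← hdx]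
      · exact ⟨_, Or.inr rfl, by rw [hkinv]⟩
      · exact ⟨_, Or.inl rfl, by rw [hkz]⟩
    · rcases hfr with e' | e' <;> rw [h, e', ← hdx, mul_assoc]
      · refine ⟨_, Or.inl rfl, ?_⟩
        rw [hkinv, E.z_central hk, ← mul_assoc E.z, E.zz, one_mul]
      · exact ⟨_, Or.inr rfl, by rw [hkz, E.z_central hk]⟩
  -- transport back to `t`
  have hback : ∀ y ∈ E.A, Commute (f * E.t * f⁻¹) y →
      f⁻¹ * y * f ∈ E.A ∧ E.t * (f⁻¹ * y * f) * E.t = f⁻¹ * y * f := by
    intro y hy hc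
    refine ⟨by simpa using E.normal.conj_mem y hy f⁻¹, ?_⟩
    calc E.t * (f⁻¹ * y * f) * E.t = f⁻¹ * (f * E.t * f⁻¹ * y) * f * E.t := by group
      _ = f⁻¹ * y * f * (E.t * E.t) := by rw [hc.eq]; group
      _ = _ := by rw [E.htt, mul_one]
  have hmA : m ∈ E.A := (E.mem_S.1 hm).2
  obtain ⟨b, hb⟩ := mem_zpowers_iff.1 hkm
  rcases he with e | e
  · obtain ⟨M, rfl⟩ : ∃ M, N = M + 1 := ⟨N - 1, by omega⟩
    have hcm : Commute (f * E.t * f⁻¹) (m ^ (2 ^ M : ℕ)) := by
      refine Commute.pow_right ?_ _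
      rw [hτ']
      refine Commute.mul_left (mul_inv_eq_iff_eq_mul.1 e) ?_
      rcases hw with rfl | rfl
      · rw [← hb]; exact Commute.zpow_self m b
      · exact Commute.mul_left (by rw [← hb]; exact Commute.zpow_self m b)
          (E.z_commute hm).symm
    obtain ⟨hA, ht⟩ := hback _ (pow_mem hmA _) hcm
    have hp : ∀ n : ℕ, (f⁻¹ * m ^ (2 ^ M : ℕ) * f) ^ n = f⁻¹ * m ^ (2 ^ M * n) * f := by
      intro n
      have := conj_pow (a := f⁻¹) (b := m ^ (2 ^ M : ℕ)) (i := n)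
      rw [inv_inv] at this
      rw [this, pow_mul]
    have h8 := E.h8 _ hA ht (by
      rw [hp, show 2 ^ M * 8 = orderOf m by rw [hord]; ring, pow_orderOf_eq_one]; group)
    rw [hp] at h8
    have h4 : m ^ (2 ^ M * 4) = 1 := by
      have := congrArg (fun x => f * x * f⁻¹) h8
      simpa [mul_assoc] using this
    refine pow_ne_one_of_lt_orderOf (by positivity) ?_ h4
    rw [hord, pow_succ, pow_succ]
    have := Nat.two_pow_pos M
    omega
  · have hmz : Commute m E.z := E.z_commute hm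
    have hwr : w * E.r * w⁻¹ = E.r * E.z := by
      have h1 : k * E.r * k⁻¹ = E.r * E.z := by
        have h2 : k * E.r * k⁻¹ = (E.r * k * E.r⁻¹)⁻¹ * E.r * k⁻¹ * k * k⁻¹ := by
          rw [E.rkr hq hk hτk]; group
        rw [h2, show (E.r * k * E.r⁻¹)⁻¹ * E.r * k⁻¹ * k * k⁻¹ = E.r * (k * k)⁻¹ by group, hkk,
          E.z_inv]
      rcases hw with rfl | rfl
      · exact h1
      · rw [show k * E.z * E.r * (k * E.z)⁻¹ = k * (E.z * E.r * E.z⁻¹) * k⁻¹ by group,
          ← E.z_central E.r_mem, mul_inv_cancel_right, h1]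
    have hwm : w * m * w⁻¹ = m := by
      have h1 : Commute k m := by rw [← hb]; exact Commute.zpow_self m b
      rcases hw with rfl | rfl
      · rw [h1.eq, mul_inv_cancel_right]
      · rw [(h1.mul_left hmz.symm).eq, mul_inv_cancel_right]
    have hcx : Commute (f * E.t * f⁻¹) (m * E.r) := by
      refine mul_inv_eq_iff_eq_mul.1 ?_
      rw [hτ', show d * w * (m * E.r) * (d * w)⁻¹ =
        d * ((w * m * w⁻¹) * (w * E.r * w⁻¹)) * d⁻¹ by group, hwm, hwr,
        show d * (m * (E.r * E.z)) * d⁻¹ = d * m * d⁻¹ * (d * E.r * d⁻¹) * (d * E.z * d⁻¹) by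
          group, e, hdr.eq, mul_inv_cancel_right, (E.z_commute_P hdP).eq, mul_inv_cancel_right,
        mul_assoc m E.z, ← E.z_central E.r_mem, mul_assoc, mul_assoc, E.zz, mul_one]
    have hcz : Commute (f * E.t * f⁻¹) E.z := by
      rw [hτ']
      refine (E.z_commute_P hdP).mul_left ?_
      rcases hw with rfl | rfl
      · exact E.z_commute hk
      · exact (E.z_commute hk).mul_left (Commute.refl _)
    obtain ⟨hA1, ht1⟩ := hback _ (mul_mem hmA E.hrA) hcx
    obtain ⟨hA2, ht2⟩ := hback _ (E.mem_S.1 E.z_mem).2 hcz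
    have hxx : m * E.r * (m * E.r) = 1 := by
      have := hsq 1
      rw [zpow_one, one_mul] at this
      rw [this, ← orderOf_dvd_iff_zpow_eq_one, hord]
      obtain ⟨c, hc⟩ := hi1
      push_cast at hc ⊢
      exact ⟨c + 1, by linear_combination hc⟩
    have hne : m * E.r ≠ 1 := fun h => hrnotm (-1) (by
      rw [zpow_neg_one]; exact inv_eq_of_mul_eq_one_right h)
    have hez := E.huniq _ _ hA1 hA2 ht1 ht2
      (by rw [show f⁻¹ * (m * E.r) * f * (f⁻¹ * (m * E.r) * f) =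
        f⁻¹ * (m * E.r * (m * E.r)) * f by group, hxx]; group)
      (by rw [show f⁻¹ * E.z * f * (f⁻¹ * E.z * f) = f⁻¹ * (E.z * E.z) * f by group, E.zz]; group)
      (by
        have hmr : Commute (m * E.r) E.z := E.z_commute (mul_mem hm E.r_mem)
        calc f⁻¹ * (m * E.r) * f * (f⁻¹ * E.z * f) = f⁻¹ * (m * E.r * E.z) * f := by group
          _ = _ := by rw [hmr.eq]; group)
      (fun h => hne (by simpa [mul_assoc] using congrArg (fun x => f * x * f⁻¹) h))
      (fun h => E.z_ne_one (by simpa [mul_assoc] using congrArg (fun x => f * x * f⁻¹) h))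
    have h3 : m * E.r = E.z := by simpa [mul_assoc] using congrArg (fun x => f * x * f⁻¹) hez
    obtain ⟨u, hu⟩ := mem_zpowers_iff.1 hzm
    exact hrnotm (-1 + u) (by rw [zpow_add, hu, zpow_neg_one, ← h3, inv_mul_cancel_left])

/-- `<k>` is normal. -/
theorem uniq_of_k_normal {k : G} (hk : k ∈ E.S) (hτk : E.τ k = k * E.z)
    (hkn : ∀ s ∈ E.S, k * s * k⁻¹ * s⁻¹ ∈ zpowers E.z) : E.Uniq := by
  obtain ⟨m, N, j, hm, hord, hkm, hj, hj4, hC⟩ := E.centralizer_cyclic hq hk hτk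
  have hkk := hq k hk hτk
  have hrkr := E.rkr hq hk hτk
  obtain ⟨b, hb⟩ := mem_zpowers_iff.1 hkm
  have hmk : Commute m k := hb ▸ Commute.self_zpow m b
  have hcov : ∀ x ∈ E.S, x ∈ zpowers m ∨ x * E.r⁻¹ ∈ zpowers m := by
    intro x hx
    have h0 := hkn x hx
    rcases E.zpowers_z h0 with e | e
    · refine Or.inl (hC x hx ?_)
      rw [mul_inv_eq_one, mul_inv_eq_iff_eq_mul] at e
      exact e.symm
    · refine Or.inr (hC _ (mul_mem hx (inv_mem E.r_mem)) ?_)
      have h1 : k * x = E.z * x * k := by rw [← e]; group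
      have h2 : k * E.r⁻¹ = E.r⁻¹ * (k * E.z) := by
        rw [← E.inv_sqrt hkk, ← hrkr]; group
      change x * E.r⁻¹ * k = k * (x * E.r⁻¹)
      rw [← mul_assoc, h1, mul_assoc (E.z * x) k, h2, ← mul_assoc, ← mul_assoc,
        show E.z * x * E.r⁻¹ * k * E.z = E.z * (x * E.r⁻¹ * k * E.z) by group,
        E.z_central (mul_mem (mul_mem hx (inv_mem E.r_mem)) hk), ← mul_assoc E.z E.z, E.zz,
        one_mul]
  obtain ⟨i, hi⟩ : ∃ i : ℤ, m ^ i = E.r * m * E.r⁻¹ := mem_zpowers_iff.1 (hC _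
    (mul_mem (mul_mem E.r_mem hm) (inv_mem E.r_mem)) (by
      have h := (hmk.map (MulAut.conj E.r).toMonoidHom)
      change Commute (E.r * m * E.r⁻¹) (E.r * k * E.r⁻¹) at h
      rw [hrkr] at h
      simpa using h.inv_right))
  have hi4 : (4 : ℤ) ∣ i + 1 := by
    have h1 : (m ^ i) ^ b = k⁻¹ := by rw [hi, conj_zpow, hb, hrkr]
    rw [← zpow_mul, mul_comm, zpow_mul, hb, ← zpow_neg_one] at h1
    have := zpow_cancel h1
    rw [E.orderOf_sqrt hkk] at this
    simpa using this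
  have hisq : ((2 * 2 ^ (N + 1) : ℕ) : ℤ) ∣ i * i - 1 := by
    rw [← hord]
    refine zpow_cancel ?_
    rw [zpow_one, zpow_mul, hi, conj_zpow, hi,
      show E.r * (E.r * m * E.r⁻¹) * E.r⁻¹ = (E.r * E.r) * m * (E.r * E.r)⁻¹ by group,
      show E.r * E.r = E.z from rfl, ← E.z_central hm, mul_inv_cancel_right]
  rcases exponent_cases hi4 hisq with h | ⟨h, hN⟩
  · intro x hx hx2
    rcases hcov x hx with hxm | hxm
    · rcases sq_one_of_mem_zpowers hxm (n := 2 ^ (N + 1)) hord hx2 with e | e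
      · exact Or.inl e
      · right
        rw [e]
        exact ((sq_one_of_mem_zpowers (hkk ▸ mul_mem hkm hkm : E.z ∈ zpowers m)
          (n := 2 ^ (N + 1)) hord E.zz).resolve_left E.z_ne_one).symm
    · exfalso
      obtain ⟨a, ha⟩ := mem_zpowers_iff.1 hxm
      have hx' : x = m ^ a * E.r := by rw [ha, inv_mul_cancel_right]
      have hsq : x * x = m ^ (a * (1 + i)) * E.z := by
        rw [hx', mul_add, mul_one, mul_comm a i, zpow_add, zpow_mul, hi, conj_zpow,
          show E.z = E.r * E.r from rfl]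
        group
      rw [← hord] at h
      rw [orderOf_dvd_iff_zpow_eq_one.1 (dvd_mul_of_dvd_right (add_comm i 1 ▸ h) a), one_mul,
        hx2] at hsq
      exact E.z_ne_one hsq.symm
  · exact absurd (E.sd_absurd hq hk hτk hkn hm hord hkm hj hj4 hC hi.symm h hN hcov) id

omit hq in
/-- No twisted involution. -/
theorem uniq_of_no_twisted_involution (hnu : ∀ u ∈ E.S, E.τ u = u * E.z → u * u ≠ 1) : E.Uniq := by
  by_cases hS : ∀ x ∈ E.S, x ∈ zpowers E.r
  · intro x hx hx2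
    obtain ⟨a, ha⟩ := mem_zpowers_iff.1 (hS x hx)
    exact E.sq_one_fixed hx (by rw [← ha, map_zpow, E.τ_r]) hx2
  obtain ⟨k, hk, hτk⟩ := E.exists_K hS
  by_cases hroot : ∃ k ∈ E.S, E.τ k = k * E.z ∧ (k * k = E.r ∨ k * k = E.r * E.z)
  · obtain ⟨k', hk', hτk', h⟩ := hroot
    exact E.uniq_of_root hk' hτk' h
  have hq : ∀ k ∈ E.S, E.τ k = k * E.z → k * k = E.z := by
    intro y hy hτy
    have h1 : E.τ (y * y) = y * y := by
      rw [map_mul, hτy, mul_assoc, ← mul_assoc E.z, ← E.z_central hy, mul_assoc y E.z, E.zz,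
        mul_one]
    rcases E.fixed (mul_mem hy hy) h1 with e | e | e | e
    · exact absurd e (hnu y hy hτy)
    · exact absurd ⟨y, hy, hτy, Or.inl e⟩ hroot
    · exact e
    · exact absurd ⟨y, hy, hτy, Or.inr e⟩ hroot
  obtain ⟨h, hh, hhz, hc, hcen⟩ := E.exists_near_central
  rcases E.twist_cases hh (zpowers_le.2 E.z_mem_zpowers_r hc) with e | e
  · refine E.uniq_of_r_normal hq hk hτk fun s hs => ?_
    rcases E.fixed hh e with rfl | rfl | rfl | rfl
    · exact absurd (one_mem _) hhz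
    · exact hcen s hs
    · exact absurd (mem_zpowers _) hhz
    · have := hcen s hs
      rwa [show E.r * E.z * s * (E.r * E.z)⁻¹ = E.r * (E.z * s * E.z⁻¹) * E.r⁻¹ by group,
        ← E.z_central hs, mul_inv_cancel_right] at this
  · exact E.uniq_of_k_normal hq hh e hcen

end Env

end CfsgLib.SemisimpleFour
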