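import Cfsg.Agent.Lib.Invol.SemisimpleFour.CaseD

/-!
The normal four-group and the lifts of the quotient by it.
-/

set_option autoImplicit false
set_option linter.unusedSectionVars false

namespace CfsgLib.SemisimpleFour

open Subgroup

variable {G : Type*} [Group G] [Finite G]

namespace Env

variable (E : Env G)

/-- The four-group of `u` and `z`. -/
def U (u : G) : Subgroup G := closure {u, E.z}

/-- A lift of a non-cyclic quotient `S/U`. -/
structure Lift (u : G) where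
  h : G
  m : G
  N : ℕ
  hS : h ∈ E.S
  hm : h⁻¹ * E.τ h = m
  hum : Commute u m
  hh : ∀ a : ℤ, (m ^ a)⁻¹ * h ∉ E.U u
  hord : ∀ a : ℤ, m ^ a ∈ E.U u ↔ ((2 * 2 ^ N : ℕ) : ℤ) ∣ a
  w : G
  hw : w = u ∨ w = u * E.z
  hmn : m ^ (2 ^ N) = E.r * w
  hv : h * h ∈ E.U u ∨ (E.r⁻¹ * (h * h) ∈ E.U u ∧ 1 ≤ N)
  hcov : ∀ x ∈ E.S, (∃ a : ℤ, (m ^ a)⁻¹ * x ∈ E.U u) ∨ ∃ a : ℤ, (h * m ^ a)⁻¹ * x ∈ E.U u

variable {u : G} (hu : u ∈ E.S) (hτu : E.τ u = u * E.z) (hu2 : u * u = 1)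
include hu hτu hu2

theorem u_mem_U : u ∈ E.U u := subset_closure (Set.mem_insert _ _)

theorem z_mem_U : E.z ∈ E.U u := subset_closure (Set.mem_insert_of_mem _ rfl)

theorem mem_U {x : G} (hx : x ∈ E.U u) : x = 1 ∨ x = E.z ∨ x = u ∨ x = u * E.z := by
  have hzu : E.z * u = u * E.z := (E.z_central hu).symm
  induction hx using closure_induction with
  | mem y hy =>
    rcases hy with rfl | rfl
    · exact Or.inr (Or.inr (Or.inl rfl))
    · exact Or.inr (Or.inl rfl)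
  | one => exact Or.inl rfl
  | mul a b _ _ ha hb =>
    have h1 : ∀ y, u * (u * y) = y := fun y => by rw [← mul_assoc, hu2, one_mul]
    have h2 : ∀ y, E.z * (E.z * y) = y := fun y => by rw [← mul_assoc, E.zz, one_mul]
    have h3 : ∀ y, E.z * (u * y) = u * (E.z * y) := fun y => by
      rw [← mul_assoc, hzu, mul_assoc]
    rcases ha with rfl | rfl | rfl | rfl <;> rcases hb with rfl | rfl | rfl | rfl <;>
      simp [mul_assoc, hu2, E.zz, hzu, h1, h2, h3]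
  | inv a _ ha =>
    rcases ha with rfl | rfl | rfl | rfl <;>
      simp [mul_inv_rev, E.z_inv, inv_eq_of_mul_eq_one_right hu2, hzu]

theorem U_le : E.U u ≤ E.S :=
  (closure_le _).2 fun x hx => by
    rcases hx with rfl | rfl
    · exact hu
    · exact E.z_mem

theorem U_sq {x : G} (hx : x ∈ E.U u) : x * x = 1 := by
  rcases E.mem_U hu hτu hu2 hx with rfl | rfl | rfl | rfl
  · exact mul_one 1
  · exact E.zz
  · exact hu2
  · rw [(E.z_commute hu).symm.mul_mul_mul_comm, hu2, E.zz, one_mul]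

theorem U_conj {s x : G} (hs : s ∈ E.S) (hx : x ∈ E.U u) : s * x * s⁻¹ ∈ E.U u := by
  have hz : s * E.z * s⁻¹ = E.z := by rw [E.z_central hs, mul_inv_cancel_right]
  have hz' : s * E.z * s⁻¹ ∈ E.U u := hz.symm ▸ E.z_mem_U hu hτu hu2
  have hu' : s * u * s⁻¹ ∈ E.U u := by
    rcases E.conj_u hu hτu hu2 s hs with e | e <;> rw [e]
    · exact E.u_mem_U hu hτu hu2
    · exact mul_mem (E.u_mem_U hu hτu hu2) (E.z_mem_U hu hτu hu2)
  rcases E.mem_U hu hτu hu2 hx with rfl | rfl | rfl | rfl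
  · simp
  · exact hz'
  · exact hu'
  · rw [show s * (u * E.z) * s⁻¹ = s * u * s⁻¹ * (s * E.z * s⁻¹) by group]
    exact mul_mem hu' hz'

theorem U_commute_r {x : G} (hx : x ∈ E.U u) : Commute x E.r := by
  have h1 := E.commute_r hu hτu hu2
  have h2 : Commute E.z E.r := (E.z_commute E.r_mem).symm
  rcases E.mem_U hu hτu hu2 hx with rfl | rfl | rfl | rfl
  · exact Commute.one_left _
  · exact h2
  · exact h1
  · exact h1.mul_left h2

theorem τ_U {x : G} (hx : x ∈ E.U u) : E.τ x ∈ E.U u := by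
  rcases E.mem_U hu hτu hu2 hx with rfl | rfl | rfl | rfl
  · rw [map_one]; exact one_mem _
  · rw [E.τ_z]; exact E.z_mem_U hu hτu hu2
  · rw [hτu]; exact mul_mem (E.u_mem_U hu hτu hu2) (E.z_mem_U hu hτu hu2)
  · rw [map_mul, hτu, E.τ_z, mul_assoc, E.zz, mul_one]; exact E.u_mem_U hu hτu hu2

theorem z_mem_zpowers_z {x : G} (hx : x ∈ E.U u) : x ∈ zpowers E.z ∨ x * u⁻¹ ∈ zpowers E.z := by
  rcases E.mem_U hu hτu hu2 hx with rfl | rfl | rfl | rfl
  · exact Or.inl (one_mem _)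
  · exact Or.inl (mem_zpowers _)
  · exact Or.inr (by rw [mul_inv_cancel]; exact one_mem _)
  · exact Or.inr (by rw [E.z_central hu, mul_inv_cancel_right]; exact mem_zpowers _)

theorem u_not_mem_zpowers_z : u ∉ zpowers E.z := fun h => by
  rcases E.zpowers_z h with e | e
  · exact E.u_ne_one hu hτu hu2 e
  · exact E.u_ne_z hu hτu hu2 e

/-- The twists commute with `u`. -/
theorem twist_commute {h : G} (hh : h ∈ E.S) : Commute u (h⁻¹ * E.τ h) := by
  have h1 := E.conj_u hu hτu hu2 h hh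
  have hτ : E.τ h * (u * E.z) * (E.τ h)⁻¹ = E.τ (h * u * h⁻¹) := by
    rw [map_mul, map_mul, map_inv, hτu]
  have hz : E.τ h * E.z * (E.τ h)⁻¹ = E.z := by
    rw [E.z_central (E.τ_mem_S hh), mul_inv_cancel_right]
  rw [show E.τ h * (u * E.z) * (E.τ h)⁻¹ = E.τ h * u * (E.τ h)⁻¹ * (E.τ h * E.z * (E.τ h)⁻¹) by
    group, hz] at hτ
  have hkey : E.τ h * u * (E.τ h)⁻¹ = h * u * h⁻¹ := by
    rcases h1 with e | e <;> rw [e] at hτ ⊢
    · rw [hτu] at hτ; exact mul_right_cancel hτ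
    · rw [map_mul, hτu, E.τ_z] at hτ; exact mul_right_cancel hτ
  change u * (h⁻¹ * E.τ h) = h⁻¹ * E.τ h * u
  calc u * (h⁻¹ * E.τ h) = h⁻¹ * (h * u * h⁻¹) * E.τ h := by group
    _ = _ := by rw [← hkey]; group

/-- The shape of `S` over `U`. -/
theorem shape :
    (∃ (g : G) (N : ℕ), g ∈ E.S ∧ (∀ a : ℤ, g ^ a ∈ E.U u ↔ ((2 * 2 ^ N : ℕ) : ℤ) ∣ a) ∧
        (g ^ (2 ^ N))⁻¹ * E.r ∈ E.U u ∧ ∀ x ∈ E.S, ∃ a : ℤ, (g ^ a)⁻¹ * x ∈ E.U u) ∨
      Nonempty (E.Lift u) := by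
  have : Fact (Nat.Prime 2) := ⟨Nat.prime_two⟩
  let U' := (E.U u).subgroupOf E.S
  have hUn : U'.Normal := ⟨fun x hx s => mem_subgroupOf.2 (by
    simpa using E.U_conj hu hτu hu2 s.2 (mem_subgroupOf.1 hx))⟩
  let τS : E.S ≃* E.S :=
    { toFun := fun x => ⟨E.τ x, E.τ_mem_S x.2⟩
      invFun := fun x => ⟨E.τ x, E.τ_mem_S x.2⟩
      left_inv := fun x => Subtype.ext (E.τ_τ x)
      right_inv := fun x => Subtype.ext (E.τ_τ x)
      map_mul' := fun x y => Subtype.ext (map_mul E.τ (x : G) y) }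
  have hmap : U'.map (τS : E.S →* E.S) = U' := by
    ext x
    constructor
    · rintro ⟨y, hy, rfl⟩
      exact mem_subgroupOf.2 (E.τ_U hu hτu hu2 (mem_subgroupOf.1 hy))
    · intro hx
      exact ⟨τS x, mem_subgroupOf.2 (E.τ_U hu hτu hu2 (mem_subgroupOf.1 hx)),
        Subtype.ext (E.τ_τ x)⟩
  let σ : E.S ⧸ U' ≃* E.S ⧸ U' := QuotientGroup.congr U' U' τS hmap
  have hσmk : ∀ x : E.S, σ (x : E.S ⧸ U') = ((τS x : E.S) : E.S ⧸ U') := fun x => rfl
  have hσσ : ∀ x, σ (σ x) = x := fun x => QuotientGroup.induction_on x fun y => by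
    rw [hσmk, hσmk]
    exact congrArg _ (Subtype.ext (E.τ_τ y))
  have hmk : ∀ x y : E.S, (x : E.S ⧸ U') = y ↔ (x : G)⁻¹ * y ∈ E.U u := fun x y => by
    rw [QuotientGroup.eq]; exact mem_subgroupOf.trans (by simp)
  let ρ : E.S ⧸ U' := ((⟨E.r, E.r_mem⟩ : E.S) : E.S ⧸ U')
  have hrU : E.r ∉ E.U u := fun h => E.z_ne_one (E.U_sq hu hτu hu2 h)
  have hρ1 : ρ ≠ 1 := fun h => by
    refine hrU ?_
    have := (QuotientGroup.eq_one_iff _).1 h
    exact mem_subgroupOf.1 this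
  have hρ2 : ρ * ρ = 1 := by
    rw [← QuotientGroup.mk_mul, QuotientGroup.eq_one_iff]
    exact mem_subgroupOf.2 (E.z_mem_U hu hτu hu2)
  have hρσ : σ ρ = ρ := by rw [hσmk]; exact congrArg _ (Subtype.ext E.τ_r)
  have hfix : ∀ x, σ x = x → x = 1 ∨ x = ρ := fun x => QuotientGroup.induction_on x fun y hy => by
    rw [hσmk] at hy
    have h1 := (hmk _ _).1 hy.symm
    change (y : G)⁻¹ * E.τ y ∈ E.U u at h1
    have h2 := E.τ_twist y
    rw [inv_eq_of_mul_eq_one_right (E.U_sq hu hτu hu2 h1)] at h2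
    have h3 : (y : G)⁻¹ * E.τ y ∈ zpowers E.r := by
      obtain ⟨c, hc⟩ : ∃ c, (y : G)⁻¹ * E.τ y = c := ⟨_, rfl⟩
      rw [hc] at h1 h2 ⊢
      rcases E.mem_U hu hτu hu2 h1 with rfl | rfl | rfl | rfl
      · exact one_mem _
      · exact E.z_mem_zpowers_r
      · rw [hτu] at h2
        exact absurd (mul_eq_left.1 h2) E.z_ne_one
      · rw [map_mul, hτu, E.τ_z, mul_assoc, E.zz, mul_one] at h2
        exact absurd (mul_eq_left.1 h2.symm) E.z_ne_one
    have hcase : ∀ b : ℤ, E.r ^ b ∈ E.U u ∨ E.r⁻¹ * E.r ^ b ∈ E.U u := fun b => by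
      rcases E.zpowers_r (zpow_mem (mem_zpowers E.r) b) with e | e | e | e <;> rw [e]
      · exact Or.inl (one_mem _)
      · exact Or.inr (by rw [inv_mul_cancel]; exact one_mem _)
      · exact Or.inl (E.z_mem_U hu hτu hu2)
      · exact Or.inr (by rw [inv_mul_cancel_left]; exact E.z_mem_U hu hτu hu2)
    have hfin : ∀ (b : ℤ) (c : G), c ∈ E.U u → (y : G) = c * E.r ^ b →
        (y : E.S ⧸ U') = 1 ∨ (y : E.S ⧸ U') = ρ := by
      intro b c hc he
      rcases hcase b with e | e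
      · left
        rw [QuotientGroup.eq_one_iff]
        exact mem_subgroupOf.2 (he ▸ mul_mem hc e)
      · right
        refine (hmk _ _).2 ?_
        change (y : G)⁻¹ * E.r ∈ E.U u
        have h4 : (y : G) = E.r * (c * (E.r⁻¹ * E.r ^ b)) := by
          rw [he, ← mul_assoc E.r c, ← (E.U_commute_r hu hτu hu2 hc).eq, mul_assoc c,
            mul_inv_cancel_left]
        rw [h4, mul_inv_rev, inv_mul_cancel_right]
        exact inv_mem (mul_mem hc e)
    rcases E.twist_cases y.2 h3 with e | e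
    · obtain ⟨b, hb⟩ := mem_zpowers_iff.1
        (E.hfixed y (E.mem_S.1 y.2).1 (E.mem_S.1 y.2).2 (E.τ_apply (y : G) ▸ e))
      exact hfin b 1 (one_mem _) (by rw [one_mul, hb])
    · obtain ⟨b, hb⟩ := mem_zpowers_iff.1 (E.coset_K hu y.2 hτu e)
      exact hfin b u (E.u_mem_U hu hτu hu2) (by rw [hb, mul_inv_cancel_left])
  -- exponents of lifts
  have hordlift : ∀ (g : E.S), ρ ∈ zpowers (g : E.S ⧸ U') → ∃ N : ℕ,
      orderOf (g : E.S ⧸ U') = 2 * 2 ^ N ∧
      (∀ a : ℤ, (g : G) ^ a ∈ E.U u ↔ ((2 * 2 ^ N : ℕ) : ℤ) ∣ a) ∧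
      ((g : G) ^ (2 ^ N))⁻¹ * E.r ∈ E.U u := by
    intro g hg
    obtain ⟨k, hk⟩ := IsPGroup.iff_orderOf.1 (E.isPGroup_S.to_quotient U') (g : E.S ⧸ U')
    rcases k with _ | k
    · refine absurd ?_ hρ1
      rw [pow_zero, orderOf_eq_one_iff] at hk
      rw [hk, zpowers_one_eq_bot, mem_bot] at hg
      exact hg
    have hk' : orderOf (g : E.S ⧸ U') = 2 * 2 ^ k := by rw [hk, pow_succ, mul_comm]
    refine ⟨k, hk', fun a => ?_, ?_⟩
    · rw [← hk', orderOf_dvd_iff_zpow_eq_one, ← QuotientGroup.mk_zpow, QuotientGroup.eq_one_iff]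
      exact (by simp [U', mem_subgroupOf] : ((g : G) ^ a ∈ E.U u ↔ g ^ a ∈ U'))
    · have h1 := (sq_one_of_mem_zpowers hg hk' hρ2).resolve_left hρ1
      rw [← QuotientGroup.mk_pow] at h1
      simpa using (hmk _ _).1 h1.symm
  have hrepr : ∀ (g : E.S) (x : E.S), (x : E.S ⧸ U') ∈ zpowers (g : E.S ⧸ U') →
      ∃ a : ℤ, ((g : G) ^ a)⁻¹ * x ∈ E.U u := fun g x hx => by
    obtain ⟨a, ha⟩ := mem_zpowers_iff.1 hx
    rw [← QuotientGroup.mk_zpow] at ha
    exact ⟨a, by simpa using (hmk _ _).1 ha⟩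
  rcases twisted_shape σ hσσ (E.isPGroup_S.to_quotient U') hρ1 hρ2 hρσ hfix with
    ⟨g, hg⟩ | ⟨h, m, l, hh, hm, hinv, -, hl, hle, h2l, hρm, hcov⟩
  · obtain ⟨g, rfl⟩ := QuotientGroup.mk_surjective g
    obtain ⟨N, -, hord, hr⟩ := hordlift g (hg ρ)
    exact Or.inl ⟨g, N, g.2, hord, hr, fun x hx => hrepr g ⟨x, hx⟩ (hg _)⟩
  · obtain ⟨h, rfl⟩ := QuotientGroup.mk_surjective h
    obtain ⟨mS, hmS⟩ : ∃ mS : E.S, mS = h⁻¹ * τS h := ⟨_, rfl⟩
    have hmq : (mS : E.S ⧸ U') = m := by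
      rw [← hm, hmS, hσmk, QuotientGroup.mk_mul, QuotientGroup.mk_inv]
    subst hmq
    have hmG : (h : G)⁻¹ * E.τ h = mS := by rw [hmS]; rfl
    obtain ⟨N, hN, hord, hr⟩ := hordlift mS hρm
    have hum : Commute u (mS : G) := hmG ▸ E.twist_commute hu hτu hu2 h.2
    obtain ⟨w, hw⟩ : ∃ w, E.r⁻¹ * (mS : G) ^ (2 ^ N) = w := ⟨_, rfl⟩
    have hwU : w ∈ E.U u := by
      have h1 := inv_mem hr
      rw [mul_inv_rev, inv_inv, hw] at h1
      exact h1
    have hmn : (mS : G) ^ (2 ^ N) = E.r * w := by rw [← hw, mul_inv_cancel_left]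
    have hw' : w = u ∨ w = u * E.z := by
      have h1 : E.τ ((mS : G) ^ (2 ^ N)) = ((mS : G) ^ (2 ^ N))⁻¹ := by
        rw [map_pow, ← hmG, E.τ_twist, inv_pow]
      rw [hmn, map_mul, E.τ_r, mul_inv_rev, E.r_inv] at h1
      rcases E.mem_U hu hτu hu2 hwU with rfl | rfl | rfl | rfl
      · rw [map_one, inv_one, one_mul, mul_one] at h1
        exact absurd (mul_eq_left.1 h1.symm) E.z_ne_one
      · rw [E.τ_z, E.z_inv, ← mul_assoc, ← E.z_central E.r_mem] at h1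
        exact absurd (mul_eq_left.1 h1.symm) E.z_ne_one
      · exact Or.inl rfl
      · exact Or.inr rfl
    refine Or.inr ⟨⟨h, mS, N, h.2, hmG, hum, fun a ha => hh ?_, hord, w, hw', hmn, ?_, ?_⟩⟩
    · refine mem_zpowers_iff.2 ⟨a, ?_⟩
      rw [← QuotientGroup.mk_zpow]
      exact (hmk _ _).2 (by simpa using ha)
    · obtain ⟨c, hc⟩ : (2 ^ N : ℤ) ∣ l := by
        rw [hN] at h2l
        push_cast at h2l
        exact (mul_dvd_mul_iff_left (two_ne_zero (α := ℤ))).1 h2l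
      rw [← QuotientGroup.mk_mul, ← QuotientGroup.mk_zpow] at hl
      have h1 : ((mS : G) ^ l)⁻¹ * ((h : G) * h) ∈ E.U u := by
        simpa using (hmk _ _).1 hl.symm
      rcases Int.even_or_odd' c with ⟨c', rfl | rfl⟩
      · left
        have h2 := mul_mem ((hord l).2 ⟨c', by rw [hc]; push_cast; ring⟩) h1
        rwa [mul_inv_cancel_left] at h2
      · right
        refine ⟨?_, Nat.one_le_iff_ne_zero.2 fun h0 => ?_⟩
        · have h2 : (mS : G) ^ l = E.r * (w * (mS : G) ^ (((2 * 2 ^ N : ℕ) : ℤ) * c')) := by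
            rw [← mul_assoc, ← hmn, ← zpow_natCast, ← zpow_add, hc]
            congr 1; push_cast; ring
          have h3 := mul_mem (mul_mem hwU ((hord _).2 (dvd_mul_right _ c'))) h1
          rw [h2, mul_inv_rev E.r, mul_assoc (_⁻¹), mul_inv_cancel_left] at h3
          exact h3
        · subst h0
          obtain ⟨e, he⟩ := hle
          simp at hc
          omega
    · intro x hx
      rcases hcov (⟨x, hx⟩ : E.S) with hx' | hx'
      · exact Or.inl (hrepr mS ⟨x, hx⟩ hx')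
      · rw [← QuotientGroup.mk_inv, ← QuotientGroup.mk_mul] at hx'
        obtain ⟨a, ha⟩ := hrepr mS _ hx'
        refine Or.inr ⟨a, ?_⟩
        simpa [mul_assoc] using ha

end Env

end CfsgLib.SemisimpleFour
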