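import Cfsg.Agent.Lib.Invol.SemisimpleFour.Four
import Cfsg.Agent.Lib.Comp.PComponent
import Cfsg.Agent.S0949

/-!
The normal four-group leads to a contradiction.
-/

set_option autoImplicit false
set_option linter.unusedSectionVars false

namespace CfsgLib.SemisimpleFour

open Subgroup

variable {G : Type*} [Group G] [Finite G]

namespace Env

variable (E : Env G)

/-- Abelian quotients from two generators. -/
theorem comm_mem_of_gen {M : Subgroup G} {a b : G} (ha : a ∈ E.S) (hb : b ∈ E.S)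
    (hMn : ∀ s ∈ E.S, ∀ p ∈ M, s * p * s⁻¹ ∈ M) (hab : a * b * a⁻¹ * b⁻¹ ∈ M)
    (hgen : ∀ x ∈ E.S, ∃ i j : ℤ, (a ^ i * b ^ j)⁻¹ * x ∈ M) :
    ∀ x ∈ E.S, ∀ y ∈ E.S, x * y * x⁻¹ * y⁻¹ ∈ M := by
  let M' := M.subgroupOf E.S
  have : M'.Normal := ⟨fun p hp s => hMn s s.2 p hp⟩
  have hc : Commute ((⟨a, ha⟩ : E.S) : E.S ⧸ M') ((⟨b, hb⟩ : E.S) : E.S ⧸ M') := by
    refine mul_inv_eq_iff_eq_mul.1 (mul_inv_eq_one.1 ?_)
    rw [← QuotientGroup.mk_inv, ← QuotientGroup.mk_inv, ← QuotientGroup.mk_mul,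
      ← QuotientGroup.mk_mul, ← QuotientGroup.mk_mul, QuotientGroup.eq_one_iff]
    exact mem_subgroupOf.2 hab
  have hrep : ∀ x : E.S, ∃ i j : ℤ, (x : E.S ⧸ M') =
      ((⟨a, ha⟩ : E.S) : E.S ⧸ M') ^ i * ((⟨b, hb⟩ : E.S) : E.S ⧸ M') ^ j := fun x => by
    obtain ⟨i, j, h⟩ := hgen x x.2
    refine ⟨i, j, ?_⟩
    rw [← QuotientGroup.mk_zpow, ← QuotientGroup.mk_zpow, ← QuotientGroup.mk_mul, eq_comm,
      QuotientGroup.eq]
    exact h
  intro x hx y hy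
  obtain ⟨i, j, h1⟩ := hrep ⟨x, hx⟩
  obtain ⟨i', j', h2⟩ := hrep ⟨y, hy⟩
  have h3 : Commute ((⟨x, hx⟩ : E.S) : E.S ⧸ M') ((⟨y, hy⟩ : E.S) : E.S ⧸ M') := by
    rw [h1, h2]
    exact ((Commute.zpow_zpow_self _ i i').mul_right (hc.zpow_zpow i j')).mul_left
      ((hc.symm.zpow_zpow j i').mul_right (Commute.zpow_zpow_self _ j j'))
  have h4 : (((⟨x, hx⟩ * ⟨y, hy⟩ * ⟨x, hx⟩⁻¹ * ⟨y, hy⟩⁻¹ : E.S)) : E.S ⧸ M') = 1 := by
    rw [QuotientGroup.mk_mul, QuotientGroup.mk_mul, QuotientGroup.mk_mul, h3.eq,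
      QuotientGroup.mk_inv, QuotientGroup.mk_inv, mul_inv_cancel_right, mul_inv_cancel]
  exact mem_subgroupOf.1 ((QuotientGroup.eq_one_iff _).1 h4)

variable {u : G} (hu : u ∈ E.S) (hτu : E.τ u = u * E.z) (hu2 : u * u = 1)
include hu hτu hu2

/-- All involutions but `z` are congruent to `u`. -/
theorem absurd_of_const {M : Subgroup G} (hM : ∀ x ∈ E.S, ∀ y ∈ E.S, x * y * x⁻¹ * y⁻¹ ∈ M)
    (huM : u ∉ M) (hnz : ∀ g ∈ E.A, g * u * g⁻¹ ≠ E.z)
    (hinv : ∀ x ∈ E.S, x * x = 1 → x ≠ 1 → x ≠ E.z → x * u⁻¹ ∈ M) : False := by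
  refine E.no_const hM hu hu2 huM fun g hg hS => hinv _ hS ?_ ?_ ?_
  · calc g⁻¹ * u * g * (g⁻¹ * u * g) = g⁻¹ * (u * u) * g := by group
      _ = 1 := by rw [hu2]; group
  · intro h
    refine E.u_ne_one hu hτu hu2 ?_
    simpa [mul_assoc] using congrArg (fun x => g * x * g⁻¹) h
  · intro h
    refine hnz g⁻¹ (inv_mem hg) ?_
    rwa [inv_inv]

/-- Facts about a lift of the generator. -/
theorem lift_facts {g : G} {N : ℕ} (hord : ∀ a : ℤ, g ^ a ∈ E.U u ↔ ((2 * 2 ^ N : ℕ) : ℤ) ∣ a)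
    {w : G} (hw : w ∈ E.U u) (hgn : g ^ (2 ^ N) = E.r * w) :
    g ^ (2 * 2 ^ N) = E.z ∧ orderOf g = 2 * (2 * 2 ^ N) ∧
      (∀ a : ℤ, g ^ a ∈ E.U u → g ^ a ∈ zpowers E.z) ∧ u ∉ zpowers g := by
  have hgz : g ^ (2 * 2 ^ N) = E.z := by
    rw [two_mul, pow_add, hgn, (E.U_commute_r hu hτu hu2 hw).mul_mul_mul_comm,
      E.U_sq hu hτu hu2 hw, mul_one]
    rfl
  have hmem : ∀ a : ℤ, g ^ a ∈ E.U u → g ^ a ∈ zpowers E.z := fun a ha => by
    obtain ⟨c, hc⟩ := (hord a).1 ha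
    rw [hc, zpow_mul, zpow_natCast, hgz]
    exact zpow_mem (mem_zpowers _) c
  refine ⟨hgz, ?_, hmem, fun h => ?_⟩
  · have h1 : orderOf g ∣ 2 * (2 * 2 ^ N) :=
      orderOf_dvd_of_pow_eq_one (by rw [mul_comm 2 (2 * 2 ^ N), pow_mul, hgz, pow_two, E.zz])
    obtain ⟨c, hc⟩ : (2 * 2 ^ N) ∣ orderOf g := by
      have h2 := (hord (orderOf g)).1 (by rw [zpow_natCast, pow_orderOf_eq_one]; exact one_mem _)
      exact_mod_cast h2
    have hc2 : c ∣ 2 := by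
      rw [hc] at h1
      refine (Nat.mul_dvd_mul_iff_left (a := 2 * 2 ^ N) (by positivity)).1 ?_
      rw [mul_comm (2 * 2 ^ N) 2]
      exact h1
    rcases (Nat.dvd_prime Nat.prime_two).1 hc2 with rfl | rfl
    · refine absurd ?_ E.z_ne_one
      rw [← hgz, show 2 * 2 ^ N = orderOf g by rw [hc, mul_one], pow_orderOf_eq_one]
    · rw [hc]; ring
  · obtain ⟨a, ha⟩ := mem_zpowers_iff.1 h
    exact E.u_not_mem_zpowers_z hu hτu hu2 (ha ▸ hmem a (ha.symm ▸ E.u_mem_U hu hτu hu2))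

/-- Squares and involutions in the cyclic part. -/
theorem cyclic_part {g x w₀ : G} {N : ℕ} {a : ℤ}
    (hord : ∀ a : ℤ, g ^ a ∈ E.U u ↔ ((2 * 2 ^ N : ℕ) : ℤ) ∣ a) (hw₀ : w₀ ∈ E.U u)
    (hgn : g ^ (2 ^ N) = E.r * w₀) (hg : g ∈ E.S) (hx : (g ^ a)⁻¹ * x ∈ E.U u) :
    x * x ∈ zpowers g ∧ (x * x = 1 → x ∈ E.U u) := by
  obtain ⟨hgz, -, -, -⟩ := E.lift_facts hu hτu hu2 hord hw₀ hgn
  have hzg : E.z ∈ zpowers g := hgz ▸ npow_mem_zpowers g _
  obtain ⟨w, hw⟩ : ∃ w, (g ^ a)⁻¹ * x = w := ⟨_, rfl⟩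
  rw [hw] at hx
  have hxe : x = g ^ a * w := by rw [← hw, mul_inv_cancel_left]
  have hgw : g ^ a * w * (g ^ a)⁻¹ ∈ E.U u := E.U_conj hu hτu hu2 (zpow_mem hg a) hx
  obtain ⟨w', hw'⟩ : ∃ w', g ^ a * w * (g ^ a)⁻¹ = w' := ⟨_, rfl⟩
  have hxx : x * x = w' * g ^ (2 * a) * w := by
    rw [hxe, two_mul, zpow_add, ← hw']; group
  refine ⟨?_, fun h => ?_⟩
  · rw [hxx, show w' * g ^ (2 * a) * w =
      g ^ (2 * a) * ((g ^ (2 * a))⁻¹ * w' * g ^ (2 * a) * w) by group]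
    refine mul_mem (zpow_mem (mem_zpowers g) _) ?_
    -- a commutator with the four-group lies in `⟨z⟩`
    have hcz : ∀ s ∈ E.S, ∀ v ∈ E.U u, s * v * s⁻¹ * v⁻¹ ∈ zpowers E.z := by
      intro s hs v hv
      have hz' : s * E.z * s⁻¹ = E.z := by rw [E.z_central hs, mul_inv_cancel_right]
      have hu' : s * u * s⁻¹ * u⁻¹ ∈ zpowers E.z := by
        rcases E.conj_u hu hτu hu2 s hs with e | e <;> rw [e]
        · rw [mul_inv_cancel]; exact one_mem _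
        · rw [E.z_central hu, mul_inv_cancel_right]; exact mem_zpowers _
      rcases E.mem_U hu hτu hu2 hv with rfl | rfl | rfl | rfl
      · simp
      · rw [hz', mul_inv_cancel]; exact one_mem _
      · exact hu'
      · rw [show s * (u * E.z) * s⁻¹ * (u * E.z)⁻¹ =
          s * u * s⁻¹ * (s * E.z * s⁻¹ * E.z⁻¹) * u⁻¹ by group, hz', mul_inv_cancel, mul_one]
        exact hu'
    have h1 : (g ^ (2 * a))⁻¹ * w' * g ^ (2 * a) * w =
        (g ^ a)⁻¹ * w * g ^ a * w := by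
      rw [two_mul, zpow_add, ← hw']; group
    rw [h1]
    have h2 := hcz _ (inv_mem (zpow_mem hg a)) w hx
    rw [inv_inv, inv_eq_of_mul_eq_one_right (E.U_sq hu hτu hu2 hx)] at h2
    exact zpowers_le.2 hzg h2
  · have h2a : g ^ (2 * a) ∈ E.U u := by
      have h3 : g ^ (2 * a) = w'⁻¹ * w⁻¹ := by
        rw [hxx] at h
        calc g ^ (2 * a) = w'⁻¹ * (w' * g ^ (2 * a) * w) * w⁻¹ := by group
          _ = _ := by rw [h, mul_one]
      rw [h3]
      exact mul_mem (inv_mem (hw' ▸ hgw)) (inv_mem hx)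
    obtain ⟨c, hc⟩ := (hord _).1 h2a
    push_cast at hc
    have hac : a = 2 ^ N * c := by linarith
    rcases Int.even_or_odd' c with ⟨c', rfl | rfl⟩
    · have hga : g ^ a ∈ E.U u := (hord a).2 ⟨c', by rw [hac]; push_cast; ring⟩
      rw [hxe]; exact mul_mem hga hx
    · exfalso
      have hga : g ^ a = E.r * (w₀ * g ^ (((2 * 2 ^ N : ℕ) : ℤ) * c')) := by
        rw [← mul_assoc, ← hgn, ← zpow_natCast, ← zpow_add, hac]
        congr 1; push_cast; ring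
      obtain ⟨p, hp, hpe⟩ : ∃ p ∈ E.U u, x = E.r * p :=
        ⟨_, mul_mem (mul_mem hw₀ ((hord _).2 (dvd_mul_right _ c'))) hx,
          by rw [hxe, hga, mul_assoc]⟩
      rw [hpe, (E.U_commute_r hu hτu hu2 hp).mul_mul_mul_comm, E.U_sq hu hτu hu2 hp, mul_one] at h
      exact E.z_ne_one h

/-- The quotient is not cyclic. -/
theorem cyclic_absurd {g : G} {N : ℕ} (hg : g ∈ E.S)
    (hord : ∀ a : ℤ, g ^ a ∈ E.U u ↔ ((2 * 2 ^ N : ℕ) : ℤ) ∣ a)
    (hr : (g ^ (2 ^ N))⁻¹ * E.r ∈ E.U u)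
    (hcov : ∀ x ∈ E.S, ∃ a : ℤ, (g ^ a)⁻¹ * x ∈ E.U u) : False := by
  obtain ⟨w, hw, hgn⟩ : ∃ w ∈ E.U u, g ^ (2 ^ N) = E.r * w :=
    ⟨E.r⁻¹ * g ^ (2 ^ N), by simpa using inv_mem hr, by rw [mul_inv_cancel_left]⟩
  obtain ⟨hgz, hog, -, hug⟩ := E.lift_facts hu hτu hu2 hord hw hgn
  have hzg : E.z ∈ zpowers g := hgz ▸ npow_mem_zpowers g _
  have hzle : zpowers E.z ≤ zpowers g := zpowers_le.2 hzg
  have hugu : u * g * u⁻¹ ∈ zpowers g := by
    rcases E.conj_u hu hτu hu2 g hg with e | e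
    · rw [mul_inv_eq_iff_eq_mul] at e
      rw [← e, mul_inv_cancel_right]; exact mem_zpowers _
    · rw [mul_inv_eq_iff_eq_mul] at e
      have h1 : u * g * u⁻¹ = g * E.z := by
        rw [show g * E.z = E.z⁻¹ * g by rw [E.z_inv, E.z_central hg],
          ← mul_inv_eq_iff_eq_mul.2 (show u * g = E.z⁻¹ * g * u by
            rw [mul_assoc E.z⁻¹ g u, e, E.z_central hu, mul_assoc E.z u g, inv_mul_cancel_left])]
      rw [h1]
      exact mul_mem (mem_zpowers _) hzg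
  have hrep : ∀ x ∈ E.S, ∃ (a i : ℤ) (p : G), p ∈ zpowers E.z ∧ x = g ^ a * p * u ^ i := by
    intro x hx
    obtain ⟨a, ha⟩ := hcov x hx
    rcases E.z_mem_zpowers_z hu hτu hu2 ha with h | h
    · exact ⟨a, 0, _, h, by rw [zpow_zero, mul_one, mul_inv_cancel_left]⟩
    · exact ⟨a, 1, _, h, by rw [zpow_one]; group⟩
  have hMn : ∀ s ∈ E.S, ∀ p ∈ zpowers g, s * p * s⁻¹ ∈ zpowers g := by
    intro s hs p hp
    obtain ⟨b, rfl⟩ := mem_zpowers_iff.1 hp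
    obtain ⟨a, i, q, hq, rfl⟩ := hrep s hs
    have hui : u ^ i * g * (u ^ i)⁻¹ ∈ zpowers g := by
      rcases Int.even_or_odd' i with ⟨j, rfl | rfl⟩
      · rw [zpow_mul, zpow_two, hu2, one_zpow, one_mul, inv_one, mul_one]; exact mem_zpowers _
      · rw [zpow_add, zpow_mul, zpow_two, hu2, one_zpow, one_mul, zpow_one]; exact hugu
    have hq' : q ∈ zpowers g := hzle hq
    rw [show g ^ a * q * u ^ i * g ^ b * (g ^ a * q * u ^ i)⁻¹ =
      g ^ a * q * ((u ^ i * g * (u ^ i)⁻¹) ^ b) * (g ^ a * q)⁻¹ by rw [conj_zpow]; group]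
    exact mul_mem (mul_mem (mul_mem (zpow_mem (mem_zpowers _) _) hq') (zpow_mem hui b))
      (inv_mem (mul_mem (zpow_mem (mem_zpowers _) _) hq'))
  refine E.absurd_of_const hu hτu hu2 (M := zpowers g)
    (E.comm_mem_of_gen hu hu hMn (by simp) ?_) hug ?_ ?_
  · intro x hx
    obtain ⟨a, i, q, hq, rfl⟩ := hrep x hx
    refine ⟨i, 0, ?_⟩
    rw [zpow_zero, mul_one]
    have := hMn _ (inv_mem (zpow_mem hu i)) _ (mul_mem (zpow_mem (mem_zpowers g) a) (hzle hq))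
    rw [inv_inv] at this
    simpa [mul_assoc] using this
  · refine E.not_conj_z (fun x hx h4 => ?_) E.r_mem (E.commute_r hu hτu hu2) rfl
      (E.u_ne_z hu hτu hu2)
    obtain ⟨a, ha⟩ := hcov x hx
    have hsq := (E.cyclic_part hu hτu hu2 hord hw hgn hg ha).1
    rcases sq_one_of_mem_zpowers hsq hog h4 with e | e
    · exact Or.inl e
    · exact Or.inr (e.trans hgz)
  · intro x hx hx2 hx1 hxz
    obtain ⟨a, ha⟩ := hcov x hx
    rcases E.z_mem_zpowers_z hu hτu hu2 ((E.cyclic_part hu hτu hu2 hord hw hgn hg ha).2 hx2)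
      with h | h
    · exact ((E.zpowers_z h).elim hx1 hxz).elim
    · exact hzle h

section Lift

variable (L : E.Lift u)

theorem hmS : L.m ∈ E.S := L.hm ▸ mul_mem (inv_mem L.hS) (E.τ_mem_S L.hS)

theorem w_mem : L.w ∈ E.U u := by
  rcases L.hw with e | e <;> rw [e]
  · exact E.u_mem_U hu hτu hu2
  · exact mul_mem (E.u_mem_U hu hτu hu2) (E.z_mem_U hu hτu hu2)

theorem z_mem_m : E.z ∈ zpowers L.m :=
  (E.lift_facts hu hτu hu2 L.hord (E.w_mem hu hτu hu2 L) L.hmn).1 ▸ npow_mem_zpowers L.m _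

theorem τh : E.τ L.h = L.h * L.m := by rw [← L.hm]; group

/-- The twist of `m` by `h`. -/
theorem conj_m : L.h⁻¹ * L.m * L.h * L.m = (L.h * L.h)⁻¹ * E.τ (L.h * L.h) := by
  rw [map_mul, E.τh hu hτu hu2 L]; group

theorem δ_mem : L.h⁻¹ * u * L.h * u⁻¹ ∈ zpowers E.z := by
  rcases E.conj_u hu hτu hu2 _ (inv_mem L.hS) with e | e <;> rw [inv_inv] at e <;> rw [e]
  · rw [mul_inv_cancel]; exact one_mem _
  · rw [E.z_central hu, mul_inv_cancel_right]; exact mem_zpowers _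

/-- The elements of `S`. -/
theorem rep {x : G} (hx : x ∈ E.S) : ∃ (e : ℕ) (a i : ℤ) (p : G), e ≤ 1 ∧ p ∈ zpowers E.z ∧
    x = L.h ^ e * L.m ^ a * p * u ^ i := by
  rcases L.hcov x hx with ⟨a, ha⟩ | ⟨a, ha⟩ <;>
    rcases E.z_mem_zpowers_z hu hτu hu2 ha with h | h
  · exact ⟨0, a, 0, _, zero_le_one, h, by
      rw [pow_zero, one_mul, zpow_zero, mul_one, mul_inv_cancel_left]⟩
  · exact ⟨0, a, 1, _, zero_le_one, h, by rw [pow_zero, one_mul, zpow_one]; group⟩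
  · exact ⟨1, a, 0, _, le_rfl, h, by rw [pow_one, zpow_zero, mul_one, mul_inv_cancel_left]⟩
  · exact ⟨1, a, 1, _, le_rfl, h, by rw [pow_one, zpow_one]; group⟩

/-- `⟨m⟩` is normal with abelian quotient. -/
theorem comm_mem_m (hζ : L.h⁻¹ * L.m * L.h * L.m ∈ zpowers E.z) :
    ∀ x ∈ E.S, ∀ y ∈ E.S, x * y * x⁻¹ * y⁻¹ ∈ zpowers L.m := by
  have hzle : zpowers E.z ≤ zpowers L.m := zpowers_le.2 (E.z_mem_m hu hτu hu2 L)
  have hh' : L.h⁻¹ * L.m * L.h ∈ zpowers L.m :=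
    (Subgroup.mul_mem_cancel_right _ (mem_zpowers L.m)).1 (hzle hζ)
  have hh : L.h * L.m * L.h⁻¹ ∈ zpowers L.m := by
    have hn : L.h⁻¹ ∈ normalizer (zpowers L.m : Set G) :=
      Subgroup.mem_normalizer_fintype fun p hp => by
        obtain ⟨b, rfl⟩ := mem_zpowers_iff.1 hp
        rw [← conj_zpow, inv_inv]
        exact zpow_mem hh' b
    exact (mem_normalizer_iff.1 (by simpa using inv_mem hn) L.m).1 (mem_zpowers L.m)
  have hMn : ∀ s ∈ E.S, ∀ p ∈ zpowers L.m, s * p * s⁻¹ ∈ zpowers L.m := by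
    intro s hs p hp
    obtain ⟨b, rfl⟩ := mem_zpowers_iff.1 hp
    obtain ⟨e, a, i, q, he, hq, rfl⟩ := E.rep hu hτu hu2 L hs
    have hc : u ^ i * L.m ^ b * (u ^ i)⁻¹ = L.m ^ b := by
      rw [(L.hum.zpow_zpow i b).eq, mul_inv_cancel_right]
    have hq' : L.m ^ a * q * L.m ^ b * (L.m ^ a * q)⁻¹ ∈ zpowers L.m :=
      mul_mem (mul_mem (mul_mem (zpow_mem (mem_zpowers _) _) (hzle hq)) (zpow_mem (mem_zpowers _) _))
        (inv_mem (mul_mem (zpow_mem (mem_zpowers _) _) (hzle hq)))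
    rw [show L.h ^ e * L.m ^ a * q * u ^ i * L.m ^ b * (L.h ^ e * L.m ^ a * q * u ^ i)⁻¹ =
      L.h ^ e * (L.m ^ a * q * (u ^ i * L.m ^ b * (u ^ i)⁻¹) * (L.m ^ a * q)⁻¹) * (L.h ^ e)⁻¹ by
        group, hc]
    obtain ⟨b', hb'⟩ := mem_zpowers_iff.1 hq'
    rcases Nat.le_one_iff_eq_zero_or_eq_one.1 he with rfl | rfl
    · simpa using hq'
    · rw [pow_one, ← hb', ← conj_zpow]
      exact zpow_mem hh b'
  refine E.comm_mem_of_gen L.hS hu hMn ?_ ?_
  · have h1 : L.h * u * L.h⁻¹ * u⁻¹ ∈ zpowers E.z := by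
      rcases E.conj_u hu hτu hu2 _ L.hS with e | e <;> rw [e]
      · rw [mul_inv_cancel]; exact one_mem _
      · rw [E.z_central hu, mul_inv_cancel_right]; exact mem_zpowers _
    exact hzle h1
  · intro x hx
    obtain ⟨e, a, i, q, -, hq, rfl⟩ := E.rep hu hτu hu2 L hx
    refine ⟨e, i, ?_⟩
    have := hMn _ (inv_mem (zpow_mem hu i)) _
      (mul_mem (zpow_mem (mem_zpowers L.m) a) (hzle hq))
    rw [zpow_natCast]
    simpa [mul_assoc] using this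

/-- Squares off the cyclic part. -/
theorem sq_off (hζ : L.h⁻¹ * L.m * L.h * L.m ∈ zpowers E.z) {x : G} {a : ℤ}
    (hx : (L.h * L.m ^ a)⁻¹ * x ∈ E.U u) :
    (L.h * L.h)⁻¹ * (x * x) ∈ zpowers E.z ∧
      (L.h⁻¹ * L.m * L.h * L.m = 1 →
        (L.h * L.m ^ a) * (L.h * L.m ^ a) = L.h * L.h) := by
  obtain ⟨ζ, hζe⟩ : ∃ ζ, L.h⁻¹ * L.m * L.h * L.m = ζ := ⟨_, rfl⟩
  rw [hζe] at hζ
  have hmS := E.hmS hu hτu hu2 L
  have hζm : Commute ζ L.m⁻¹ := (E.zpow_z_commute (inv_mem hmS) hζ).symm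
  have hconj : L.h⁻¹ * L.m ^ a * L.h = ζ ^ a * (L.m ^ a)⁻¹ := by
    rw [← inv_zpow, ← hζm.mul_zpow, ← hζe, mul_inv_cancel_right]
    simpa using (conj_zpow (a := L.h⁻¹) (b := L.m) (i := a)).symm
  have hy : (L.h * L.m ^ a) * (L.h * L.m ^ a) = L.h * L.h * ζ ^ a := by
    calc (L.h * L.m ^ a) * (L.h * L.m ^ a) = L.h * L.h * (L.h⁻¹ * L.m ^ a * L.h) * L.m ^ a := by
          group
      _ = _ := by rw [hconj]; group
  refine ⟨?_, fun h => by rw [hy, ← hζe, h, one_zpow, mul_one]⟩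
  obtain ⟨y, hyd⟩ : ∃ y, L.h * L.m ^ a = y := ⟨_, rfl⟩
  have hyS : y ∈ E.S := hyd ▸ mul_mem L.hS (zpow_mem hmS a)
  rw [hyd] at hx hy
  obtain ⟨w, hw⟩ : ∃ w, y⁻¹ * x = w := ⟨_, rfl⟩
  rw [hw] at hx
  have hxe : x = y * w := by rw [← hw, mul_inv_cancel_left]
  have hww : y⁻¹ * w * y * w ∈ zpowers E.z := by
    have hu' : y⁻¹ * u * y * u⁻¹ ∈ zpowers E.z := by
      rcases E.conj_u hu hτu hu2 _ (inv_mem hyS) with e | e <;> rw [inv_inv] at e <;> rw [e]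
      · rw [mul_inv_cancel]; exact one_mem _
      · rw [E.z_central hu, mul_inv_cancel_right]; exact mem_zpowers _
    have hzy : y⁻¹ * E.z * y = E.z := by
      rw [mul_assoc, ← E.z_central hyS, inv_mul_cancel_left]
    rcases E.mem_U hu hτu hu2 hx with e | e | e | e <;> rw [e]
    · simp
    · rw [hzy, E.zz]; exact one_mem _
    · rwa [E.u_inv hu hτu hu2] at hu'
    · rw [show y⁻¹ * (u * E.z) * y * (u * E.z) = y⁻¹ * u * y * (y⁻¹ * E.z * y) * u * E.z by group,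
        hzy, mul_assoc (y⁻¹ * u * y) E.z u, ← E.z_central hu, ← mul_assoc, mul_assoc _ E.z E.z,
        E.zz, mul_one]
      rwa [E.u_inv hu hτu hu2] at hu'
  rw [hxe, show y * w * (y * w) = y * y * (y⁻¹ * w * y * w) by group, hy, mul_assoc (L.h * L.h),
    inv_mul_cancel_left]
  exact mul_mem (zpow_mem hζ a) hww

/-- `u` is outside `⟨m⟩`. -/
theorem u_not_m : u ∉ zpowers L.m :=
  (E.lift_facts hu hτu hu2 L.hord (E.w_mem hu hτu hu2 L) L.hmn).2.2.2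

/-- Squares that are involutions. -/
theorem sq_involution (hζ : L.h⁻¹ * L.m * L.h * L.m ∈ zpowers E.z)
    (hv : L.h * L.h ∈ zpowers L.m ∨ ∀ p ∈ zpowers E.z, L.h * L.h * p * (L.h * L.h * p) ≠ 1) :
    ∀ x ∈ E.S, x * x * (x * x) = 1 → x * x = 1 ∨ x * x = E.z := by
  intro x hx h4
  obtain ⟨hgz, hog, -, -⟩ := E.lift_facts hu hτu hu2 L.hord (E.w_mem hu hτu hu2 L) L.hmn
  have key : x * x ∈ zpowers L.m → x * x = 1 ∨ x * x = E.z := fun h => by
    rcases sq_one_of_mem_zpowers h hog h4 with e | e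
    · exact Or.inl e
    · exact Or.inr (e.trans hgz)
  rcases L.hcov x hx with ⟨a, ha⟩ | ⟨a, ha⟩
  · exact key (E.cyclic_part hu hτu hu2 L.hord (E.w_mem hu hτu hu2 L) L.hmn
      (E.hmS hu hτu hu2 L) ha).1
  · have h1 := (E.sq_off hu hτu hu2 L hζ ha).1
    obtain ⟨p, hp⟩ : ∃ p, (L.h * L.h)⁻¹ * (x * x) = p := ⟨_, rfl⟩
    rw [hp] at h1
    have hxx : x * x = L.h * L.h * p := by rw [← hp, mul_inv_cancel_left]
    rcases hv with hv | hv
    · exact key (hxx ▸ mul_mem hv (zpowers_le.2 (E.z_mem_m hu hτu hu2 L) h1))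
    · exact absurd (hxx ▸ h4) (hv p h1)

/-- Involutions in the cyclic part. -/
theorem inv_cyclic {x : G} {a : ℤ} (ha : (L.m ^ a)⁻¹ * x ∈ E.U u) (hx2 : x * x = 1)
    (hx1 : x ≠ 1) (hxz : x ≠ E.z) : x * u⁻¹ ∈ zpowers E.z := by
  rcases E.z_mem_zpowers_z hu hτu hu2 ((E.cyclic_part hu hτu hu2 L.hord (E.w_mem hu hτu hu2 L)
    L.hmn (E.hmS hu hτu hu2 L) ha).2 hx2) with h | h
  · exact ((E.zpowers_z h).elim hx1 hxz).elim
  · exact h

/-- `h² ∉ U`. -/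
theorem root_absurd (hN : 1 ≤ L.N) (hv : E.r⁻¹ * (L.h * L.h) ∈ E.U u) : False := by
  obtain ⟨w₀, hw₀⟩ : ∃ w₀, E.r⁻¹ * (L.h * L.h) = w₀ := ⟨_, rfl⟩
  rw [hw₀] at hv
  have hhh : L.h * L.h = E.r * w₀ := by rw [← hw₀, mul_inv_cancel_left]
  have hζ0 : L.h⁻¹ * L.m * L.h * L.m = w₀⁻¹ * E.τ w₀ := by
    rw [E.conj_m hu hτu hu2 L, hhh, map_mul, E.τ_r]; group
  have hζmem : L.h⁻¹ * L.m * L.h * L.m ∈ zpowers E.z := by
    rw [hζ0]
    rcases E.mem_U hu hτu hu2 hv with e | e | e | e <;> rw [e]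
    · simp
    · rw [E.τ_z, inv_mul_cancel]; exact one_mem _
    · rw [hτu, inv_mul_cancel_left]; exact mem_zpowers _
    · rw [map_mul, hτu, E.τ_z]
      rw [show (u * E.z)⁻¹ * (u * E.z * E.z) = E.z by group]
      exact mem_zpowers _
  have hwU := E.w_mem hu hτu hu2 L
  have hmn2 : L.m ^ ((2 ^ L.N : ℕ) : ℤ) = E.r * L.w := (zpow_natCast _ _).trans L.hmn
  have hinvn : L.h⁻¹ * (E.r * L.w) * L.h = (E.r * L.w)⁻¹ := by
    have h1 : (L.h⁻¹ * L.m * L.h * L.m) ^ ((2 ^ L.N : ℕ) : ℤ) = 1 := by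
      obtain ⟨M, hM⟩ : ∃ M, L.N = M + 1 := ⟨L.N - 1, by omega⟩
      rcases E.zpowers_z hζmem with e | e <;> rw [e]
      · exact one_zpow _
      · rw [hM, pow_succ', Nat.cast_mul, zpow_mul, Nat.cast_two, zpow_two, E.zz, one_zpow]
    have hc : Commute (L.h⁻¹ * L.m * L.h * L.m) L.m⁻¹ :=
      (E.zpow_z_commute (inv_mem (E.hmS hu hτu hu2 L)) hζmem).symm
    rw [← hmn2, ← inv_zpow]
    calc L.h⁻¹ * L.m ^ ((2 ^ L.N : ℕ) : ℤ) * L.h
        = (L.h⁻¹ * L.m * L.h) ^ ((2 ^ L.N : ℕ) : ℤ) := by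
          simpa using (conj_zpow (a := L.h⁻¹) (b := L.m) (i := ((2 ^ L.N : ℕ) : ℤ))).symm
      _ = _ := by
          rw [show L.h⁻¹ * L.m * L.h = L.h⁻¹ * L.m * L.h * L.m * L.m⁻¹ by group, hc.mul_zpow, h1,
            one_mul]
  have hw₀z : w₀ ∈ zpowers E.z := by
    rcases E.z_mem_zpowers_z hu hτu hu2 hv with h | h
    · exact h
    · exfalso
      -- `h` centralizes and inverts `r * w`
      obtain ⟨p, hp⟩ : ∃ p, L.w * w₀⁻¹ = p := ⟨_, rfl⟩
      have hwz : L.w * u⁻¹ ∈ zpowers E.z := by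
        rcases L.hw with e | e <;> rw [e]
        · rw [mul_inv_cancel]; exact one_mem _
        · rw [E.z_central hu, mul_inv_cancel_right]; exact mem_zpowers _
      have hpz : p ∈ zpowers E.z := by
        rw [← hp, show L.w * w₀⁻¹ = L.w * u⁻¹ * (w₀ * u⁻¹)⁻¹ by group]
        exact mul_mem hwz (inv_mem h)
      have hrw : E.r * L.w = p * (L.h * L.h) := by
        rw [hhh, ← mul_assoc, ← (E.zpow_z_commute E.r_mem hpz).eq, mul_assoc, ← hp,
          inv_mul_cancel_right]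
      have hcomm : L.h⁻¹ * (E.r * L.w) * L.h = E.r * L.w := by
        have h2 : Commute p L.h := (E.zpow_z_commute L.hS hpz).symm
        have h3 : Commute (p * (L.h * L.h)) L.h := h2.mul_left ((Commute.refl _).mul_left
          (Commute.refl _))
        rw [hrw, mul_assoc, h3.eq, inv_mul_cancel_left]
      rw [hcomm, eq_inv_iff_mul_eq_one, (E.U_commute_r hu hτu hu2 hwU).mul_mul_mul_comm,
        E.U_sq hu hτu hu2 hwU, mul_one] at hinvn
      exact E.z_ne_one hinvn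
  have hv2 : ∀ p ∈ zpowers E.z, L.h * L.h * p * (L.h * L.h * p) ≠ 1 := by
    intro p hp h
    rw [hhh, mul_assoc E.r] at h
    have hq : w₀ * p ∈ E.U u := mul_mem hv (zpowers_le.2 (E.z_mem_U hu hτu hu2) hp)
    rw [(E.U_commute_r hu hτu hu2 hq).mul_mul_mul_comm, E.U_sq hu hτu hu2 hq, mul_one] at h
    exact E.z_ne_one h
  refine E.absurd_of_const hu hτu hu2 (E.comm_mem_m hu hτu hu2 L hζmem) (E.u_not_m hu hτu hu2 L)
    (E.not_conj_z (E.sq_involution hu hτu hu2 L hζmem (Or.inr hv2)) E.r_mem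
      (E.commute_r hu hτu hu2) rfl (E.u_ne_z hu hτu hu2)) (fun x hx hx2 hx1 hxz => ?_)
  rcases L.hcov x hx with ⟨a, ha⟩ | ⟨a, ha⟩
  · exact zpowers_le.2 (E.z_mem_m hu hτu hu2 L) (E.inv_cyclic hu hτu hu2 L ha hx2 hx1 hxz)
  · exfalso
    have h1 := (E.sq_off hu hτu hu2 L hζmem ha).1
    rw [hx2, mul_one] at h1
    exact hv2 _ h1 (by rw [mul_inv_cancel, one_mul])

/-- The Sylow subgroup is not homocyclic. -/
theorem homocyclic_absurd (hN : L.N = 0) (hv : L.h * L.h * u⁻¹ ∈ zpowers E.z) : False := by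
  have : Fact (Nat.Prime 2) := ⟨Nat.prime_two⟩
  obtain ⟨hgz, hog, hmz, -⟩ := E.lift_facts hu hτu hu2 L.hord (E.w_mem hu hτu hu2 L) L.hmn
  rw [hN] at hog hgz
  norm_num at hog hgz
  have hm4 : L.m ^ 4 = 1 := hog ▸ pow_orderOf_eq_one L.m
  have hvU : L.h * L.h ∈ E.U u := by
    have h1 := mul_mem (zpowers_le.2 (E.z_mem_U hu hτu hu2) hv) (E.u_mem_U hu hτu hu2)
    rwa [inv_mul_cancel_right] at h1
  have hh4 : L.h ^ 4 = 1 := by
    rw [show (4 : ℕ) = 2 + 2 by rfl, pow_add, pow_two]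
    exact E.U_sq hu hτu hu2 hvU
  have hvne : L.h * L.h ≠ 1 ∧ L.h * L.h ≠ E.z ∧ E.τ (L.h * L.h) = L.h * L.h * E.z := by
    have hu' : L.h * L.h = u ∨ L.h * L.h = u * E.z := by
      rcases E.zpowers_z hv with e | e
      · exact Or.inl (mul_inv_eq_one.1 e)
      · right
        rw [mul_inv_eq_iff_eq_mul] at e
        rw [e, E.z_central hu]
    rcases hu' with e | e <;> rw [e]
    · exact ⟨E.u_ne_one hu hτu hu2, E.u_ne_z hu hτu hu2, hτu⟩
    · refine ⟨fun h => E.u_ne_z hu hτu hu2 ?_, fun h => E.u_ne_one hu hτu hu2 ?_, ?_⟩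
      · rw [eq_inv_of_mul_eq_one_left h, E.z_inv]
      · exact mul_eq_right.1 h
      · rw [map_mul, hτu, E.τ_z]
  have hcomm : Commute L.h L.m := by
    have h1 := E.conj_m hu hτu hu2 L
    rw [hvne.2.2, inv_mul_cancel_left] at h1
    have h2 : L.h⁻¹ * L.m * L.h = L.m := by
      refine mul_right_cancel (b := L.m) (h1.trans ?_)
      rw [← hgz, pow_two]
    rw [mul_assoc, inv_mul_eq_iff_eq_mul] at h2
    exact h2.symm
  have hmS := E.hmS hu hτu hu2 L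
  let f : Multiplicative (ZMod 4 × ZMod 4) →* E.S :=
    { toFun := fun x => ⟨L.m ^ (Multiplicative.toAdd x).1.val *
          L.h ^ (Multiplicative.toAdd x).2.val, mul_mem (pow_mem hmS _) (pow_mem L.hS _)⟩
      map_one' := Subtype.ext (by simp)
      map_mul' := fun x y => Subtype.ext (by
        have h4 : ∀ (c : G), c ^ 4 = 1 → ∀ i j : ZMod 4, c ^ (i + j).val = c ^ i.val * c ^ j.val :=
          fun c hc i j => by
            rw [ZMod.val_add, ← pow_add, pow_eq_pow_mod (i.val + j.val) hc]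
        simp only [toAdd_mul, Prod.fst_add, Prod.snd_add, Subgroup.coe_mul]
        rw [h4 _ hm4, h4 _ hh4]
        exact (hcomm.pow_pow _ _).symm.mul_mul_mul_comm _ _) }
  have hinj : Function.Injective f := by
    rw [injective_iff_map_eq_one]
    intro x hx
    have h1 : L.m ^ (Multiplicative.toAdd x).1.val * L.h ^ (Multiplicative.toAdd x).2.val = 1 :=
      congrArg Subtype.val hx
    obtain ⟨i, hi⟩ : ∃ i, (Multiplicative.toAdd x).1.val = i := ⟨_, rfl⟩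
    obtain ⟨j, hj⟩ : ∃ j, (Multiplicative.toAdd x).2.val = j := ⟨_, rfl⟩
    have hi4 : i < 4 := hi ▸ ZMod.val_lt _
    have hj4 : j < 4 := hj ▸ ZMod.val_lt _
    rw [hi, hj] at h1
    have hje : L.h ^ j = L.m ^ (-(i : ℤ)) := by
      rw [zpow_neg, zpow_natCast]; exact eq_inv_of_mul_eq_one_right h1
    have hj0 : j = 0 := by
      interval_cases j
      · rfl
      · exfalso
        refine L.hh (-(i : ℤ)) ?_
        rw [← hje, pow_one, inv_mul_cancel]; exact one_mem _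
      · exfalso
        rw [pow_two] at hje
        rcases E.zpowers_z (hje.symm ▸ hmz _ (hje ▸ hvU) :
          L.h * L.h ∈ zpowers E.z) with e | e
        · exact hvne.1 e
        · exact hvne.2.1 e
      · exfalso
        refine L.hh (i : ℤ) ?_
        have h3 : L.h = L.m ^ (i : ℤ) := by
          rw [show L.h = L.h ^ 4 * (L.h ^ 3)⁻¹ by group, hh4, one_mul, hje, zpow_neg, inv_inv]
        rw [← h3, inv_mul_cancel]; exact one_mem _
    rw [hj0, pow_zero, mul_one] at h1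
    have hd := orderOf_dvd_of_pow_eq_one h1
    rw [hog] at hd
    have hi0 : i = 0 := Nat.eq_zero_of_dvd_of_lt hd hi4
    refine Multiplicative.toAdd.injective (Prod.ext ?_ ?_)
    · exact (ZMod.val_eq_zero _).1 (hi.trans hi0)
    · exact (ZMod.val_eq_zero _).1 (hj.trans hj0)
  have hm' : (⟨L.m, hmS⟩ : E.S) ∈ f.range :=
    ⟨Multiplicative.ofAdd (1, 0), Subtype.ext (by simp [f, show (1 : ZMod 4).val = 1 from rfl])⟩
  have hh' : (⟨L.h, L.hS⟩ : E.S) ∈ f.range :=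
    ⟨Multiplicative.ofAdd (0, 1), Subtype.ext (by simp [f, show (1 : ZMod 4).val = 1 from rfl])⟩
  have hsurj : Function.Surjective f := by
    rw [← MonoidHom.range_eq_top, eq_top_iff]
    rintro ⟨x, hx⟩ -
    let R : Subgroup G := f.range.map E.S.subtype
    have hR : ∀ y : E.S, (y : G) ∈ R ↔ y ∈ f.range := fun y => mem_map_iff_mem E.S.subtype_injective
    refine (hR ⟨x, hx⟩).1 ?_
    have hmR : L.m ∈ R := (hR _).2 hm'
    have hhR : L.h ∈ R := (hR _).2 hh'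
    have hzR : zpowers E.z ≤ R :=
      (zpowers_le.2 (E.z_mem_m hu hτu hu2 L)).trans (zpowers_le.2 hmR)
    have huR : u ∈ R := by
      rw [show u = (L.h * L.h * u⁻¹)⁻¹ * (L.h * L.h) by group]
      exact mul_mem (inv_mem (hzR hv)) (mul_mem hhR hhR)
    obtain ⟨e, a, i, q, -, hq, hxe⟩ := E.rep hu hτu hu2 L hx
    rw [show (((⟨x, hx⟩ : E.S)) : G) = L.h ^ e * L.m ^ a * q * u ^ i from hxe]
    exact mul_mem (mul_mem (mul_mem (pow_mem hhR _) (zpow_mem hmR _)) (hzR hq)) (zpow_mem huR _)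
  -- Brauer's theorem in the quotient by the core
  let K : Subgroup E.A := Cfsg.pPrimeCore 2 E.A
  let q := QuotientGroup.mk' K
  let P' : Sylow 2 (E.A ⧸ K) := E.sylA.mapSurjective (QuotientGroup.mk'_surjective K)
  have hdis : ∀ x ∈ (E.sylA : Subgroup E.A), x ∈ K → x = 1 := by
    intro x hx hxK
    obtain ⟨k, hk⟩ := IsPGroup.iff_orderOf.1 E.sylA.2 ⟨x, hx⟩
    rw [Subgroup.orderOf_mk] at hk
    have h1 : orderOf x ∣ Nat.card K := Subgroup.orderOf_dvd_natCard K hxK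
    have h2 : (orderOf x).Coprime 2 := (CfsgLib.Comp.coprime_card_pPrimeCore 2 E.A).coprime_dvd_left h1
    rcases k with _ | k
    · exact orderOf_eq_one_iff.1 hk
    · rw [hk] at h2
      exact absurd ((Nat.coprime_pow_left_iff (Nat.succ_pos k) 2 2).1 h2) (by norm_num)
  let g : (E.sylA : Subgroup E.A) →* (P' : Subgroup (E.A ⧸ K)) :=
    (q.comp (E.sylA : Subgroup E.A).subtype).codRestrict _ fun x => ⟨x, x.2, rfl⟩
  have hg : Function.Bijective g := by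
    constructor
    · rw [injective_iff_map_eq_one]
      intro x hx
      exact Subtype.ext (hdis x x.2 ((QuotientGroup.eq_one_iff _).1 (congrArg Subtype.val hx)))
    · rintro ⟨_, x, hx, rfl⟩
      exact ⟨⟨x, hx⟩, rfl⟩
  let eS : (E.sylA : Subgroup E.A) ≃* E.S :=
    { toFun := fun x => ⟨x, E.mem_sylA.1 x.2⟩
      invFun := fun x => ⟨⟨x, (E.mem_S.1 x.2).2⟩, E.mem_sylA.2 x.2⟩
      left_inv := fun _ => rfl
      right_inv := fun _ => rfl
      map_mul' := fun _ _ => rfl }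
  let e : (P' : Subgroup (E.A ⧸ K)) ≃* Multiplicative (ZMod (2 ^ 2) × ZMod (2 ^ 2)) :=
    ((MulEquiv.ofBijective g hg).symm.trans eS).trans (MulEquiv.ofBijective f ⟨hinj, hsurj⟩).symm
  have hO : ∀ M : Subgroup (E.A ⧸ K), M.Normal → Odd (Nat.card M) → M = ⊥ := by
    intro M hM hodd
    rw [eq_bot_iff, ← CfsgLib.Comp.pPrimeCore_quotient_eq_bot 2 E.A]
    exact le_sSup ⟨hM, Nat.coprime_two_right.2 hodd⟩
  obtain ⟨hPn, -, hidx⟩ := Cfsg.Agent.S0949.result P' 2 le_rfl e hO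
  have htop : (P' : Subgroup (E.A ⧸ K)) = ⊤ := by
    rw [← index_eq_one]
    rcases hidx with h | h
    · exact h
    · exfalso
      have : Fact (Nat.Prime 3) := ⟨Nat.prime_three⟩
      have : IsCyclic ((E.A ⧸ K) ⧸ (P' : Subgroup (E.A ⧸ K))) :=
        isCyclic_of_prime_card (p := 3) (by rw [← index_eq_card]; exact h)
      let _ : CommGroup ((E.A ⧸ K) ⧸ (P' : Subgroup (E.A ⧸ K))) := IsCyclic.commGroup
      have h1 := E.hom_trivial ((QuotientGroup.mk' (P' : Subgroup (E.A ⧸ K))).comp q)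
      have h2 : (P' : Subgroup (E.A ⧸ K)) = ⊤ := by
        refine eq_top_iff.2 fun y _ => ?_
        obtain ⟨x, rfl⟩ := QuotientGroup.mk'_surjective K y
        refine (QuotientGroup.eq_one_iff _).1 ?_
        exact DFunLike.congr_fun h1 x
      rw [index_eq_one.2 h2] at h
      norm_num at h
  let _ : CommGroup (E.A ⧸ K) :=
    { (inferInstance : Group _) with
      mul_comm := fun a b => by
        have ha : a ∈ (P' : Subgroup (E.A ⧸ K)) := htop ▸ mem_top a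
        have hb : b ∈ (P' : Subgroup (E.A ⧸ K)) := htop ▸ mem_top b
        have := congrArg (fun x => ((e.symm x : (P' : Subgroup (E.A ⧸ K))) : E.A ⧸ K))
          (mul_comm (e ⟨a, ha⟩) (e ⟨b, hb⟩))
        simpa using this }
  have hz := DFunLike.congr_fun (E.hom_trivial q) (⟨E.z, (E.mem_S.1 E.z_mem).2⟩ : E.A)
  exact E.z_ne_one (congrArg Subtype.val
    (hdis _ (E.mem_sylA.2 (show ((⟨E.z, (E.mem_S.1 E.z_mem).2⟩ : E.A) : G) ∈ E.S from E.z_mem))
      ((QuotientGroup.eq_one_iff _).1 hz)))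

theorem ζ_one (hv : L.h * L.h ∈ zpowers E.z) : L.h⁻¹ * L.m * L.h * L.m = 1 := by
  rw [E.conj_m hu hτu hu2 L]
  rcases E.zpowers_z hv with e | e <;> rw [e]
  · simp
  · rw [E.τ_z, inv_mul_cancel]

/-- `u` centralizes when `h² ∈ u⟨z⟩`. -/
theorem h_commute_u (hv : L.h * L.h * u⁻¹ ∈ zpowers E.z) : Commute L.h u := by
  obtain ⟨p, hp⟩ : ∃ p, L.h * L.h * u⁻¹ = p := ⟨_, rfl⟩
  rw [hp] at hv
  have h1 : u = p⁻¹ * (L.h * L.h) := by rw [← hp]; group
  exact (congrArg (Commute L.h) h1).mpr ((E.zpow_z_commute L.hS (inv_mem hv)).mul_right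
    ((Commute.refl _).mul_right (Commute.refl _)))

theorem u_central (hhu : Commute L.h u) : ∀ x ∈ E.S, x * u = u * x := by
  intro x hx
  obtain ⟨e, a, i, q, -, hq, rfl⟩ := E.rep hu hτu hu2 L hx
  exact ((((hhu.pow_left e).mul_left (L.hum.symm.zpow_left a)).mul_left
    ((E.zpow_z_commute hu hq).symm))).mul_left (Commute.zpow_self u i)

/-- `h² ∉ u⟨z⟩`. -/
theorem u_sq_absurd (hv : L.h * L.h * u⁻¹ ∈ zpowers E.z) : False := by
  by_cases hN : L.N = 0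
  · exact E.homocyclic_absurd hu hτu hu2 L hN hv
  have : Fact (Nat.Prime 2) := ⟨Nat.prime_two⟩
  obtain ⟨hgz, hog, -, -⟩ := E.lift_facts hu hτu hu2 L.hord (E.w_mem hu hτu hu2 L) L.hmn
  obtain ⟨p, hp⟩ : ∃ p, L.h * L.h * u⁻¹ = p := ⟨_, rfl⟩
  have hvu : L.h * L.h = p * u := by rw [← hp, inv_mul_cancel_right]
  have hpz : p ∈ zpowers E.z := hp ▸ hv
  have hτv : E.τ (L.h * L.h) = L.h * L.h * E.z := by
    rw [hvu, map_mul, hτu, ← mul_assoc]
    rcases E.zpowers_z hpz with e | e <;> rw [e]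
    · rw [map_one]
    · rw [E.τ_z]
  have hζ : L.h⁻¹ * L.m * L.h * L.m = E.z := by
    rw [E.conj_m hu hτu hu2 L, hτv, inv_mul_cancel_left]
  have hζm : L.h⁻¹ * L.m * L.h * L.m ∈ zpowers E.z := hζ.symm ▸ mem_zpowers _
  have huc := E.u_central hu hτu hu2 L (E.h_commute_u hu hτu hu2 L hv)
  have hM := E.comm_mem_m hu hτu hu2 L hζm
  have hnz : ∀ g ∈ E.A, g * u * g⁻¹ ≠ E.z := by
    intro g hg he
    have hcu : (⟨u, (E.mem_S.1 hu).2⟩ : E.A) ∈ centralizer ((E.sylA : Subgroup E.A) : Set E.A) :=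
      mem_centralizer_iff.2 fun y hy => Subtype.ext (huc _ (E.mem_sylA.1 hy))
    have hcz : (⟨g, hg⟩ : E.A)⁻¹⁻¹ * (⟨u, (E.mem_S.1 hu).2⟩ : E.A) * (⟨g, hg⟩ : E.A)⁻¹ ∈
        centralizer ((E.sylA : Subgroup E.A) : Set E.A) :=
      mem_centralizer_iff.2 fun y hy => Subtype.ext (by
        change (y : G) * (g⁻¹⁻¹ * u * g⁻¹) = g⁻¹⁻¹ * u * g⁻¹ * y
        rw [inv_inv, he]
        exact E.z_central (E.mem_sylA.1 hy))
    obtain ⟨n, hn, hne⟩ := E.sylA.conj_eq_normalizer_conj_of_mem_centralizer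
      (⟨u, (E.mem_S.1 hu).2⟩ : E.A) (⟨g, hg⟩ : E.A)⁻¹ hcu hcz
    have hne' : g⁻¹⁻¹ * u * g⁻¹ = (n : G)⁻¹ * u * n := congrArg Subtype.val hne
    rw [inv_inv, he] at hne'
    have hnS : ∀ x ∈ E.S, (n : G) * x * (n : G)⁻¹ ∈ E.S := fun x hx =>
      E.mem_sylA.1 ((mem_normalizer_iff.1 hn ⟨x, (E.mem_S.1 hx).2⟩).1 (E.mem_sylA.2 hx))
    obtain ⟨c, hc⟩ : ∃ c, L.h⁻¹ * L.m * L.h * L.m⁻¹ = c := ⟨_, rfl⟩
    have hzc : E.z = c ^ (2 ^ L.N) := by
      have h1 : c = E.z * L.m ^ (-2 : ℤ) := by rw [← hc, ← hζ]; group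
      have hev : E.z ^ (2 ^ L.N) = 1 := by
        obtain ⟨M, hM⟩ : ∃ M, L.N = M + 1 := ⟨L.N - 1, by omega⟩
        rw [hM, pow_succ', pow_mul, pow_two, E.zz, one_pow]
      rw [h1, ((E.z_commute (zpow_mem (E.hmS hu hτu hu2 L) _)).symm).mul_pow, hev, one_mul,
        ← zpow_natCast (L.m ^ (-2 : ℤ)), ← zpow_mul,
        show (-2 : ℤ) * ((2 ^ L.N : ℕ) : ℤ) = -(((2 * 2 ^ L.N : ℕ)) : ℤ) by push_cast; ring,
        zpow_neg, zpow_natCast, hgz, E.z_inv]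
    have hcmem : (n : G) * c * (n : G)⁻¹ ∈ zpowers L.m := by
      rw [← hc, show (n : G) * (L.h⁻¹ * L.m * L.h * L.m⁻¹) * (n : G)⁻¹ =
        ((n : G) * L.h⁻¹ * (n : G)⁻¹) * ((n : G) * L.m * (n : G)⁻¹) *
          ((n : G) * L.h⁻¹ * (n : G)⁻¹)⁻¹ * ((n : G) * L.m * (n : G)⁻¹)⁻¹ by group]
      exact hM _ (hnS _ (inv_mem L.hS)) _ (hnS _ (E.hmS hu hτu hu2 L))
    have hu' : (n : G) * E.z * (n : G)⁻¹ = u := by rw [hne']; group
    have hum' : u ∈ zpowers L.m := by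
      have h3 : (n : G) * E.z * (n : G)⁻¹ ∈ zpowers L.m := by
        rw [hzc, ← conj_pow]
        exact pow_mem hcmem _
      exact (congrArg (· ∈ zpowers L.m) hu').mp h3
    exact E.u_not_m hu hτu hu2 L hum'
  refine E.absurd_of_const hu hτu hu2 hM (E.u_not_m hu hτu hu2 L) hnz (fun x hx hx2 hx1 hxz => ?_)
  rcases L.hcov x hx with ⟨a, ha⟩ | ⟨a, ha⟩
  · exact zpowers_le.2 (E.z_mem_m hu hτu hu2 L) (E.inv_cyclic hu hτu hu2 L ha hx2 hx1 hxz)
  · exfalso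
    have h1 := (E.sq_off hu hτu hu2 L hζm ha).1
    rw [hx2, mul_one, hvu, mul_inv_rev] at h1
    refine E.u_not_mem_zpowers_z hu hτu hu2 ?_
    have h2 := mul_mem h1 hpz
    rw [inv_mul_cancel_right] at h2
    simpa using inv_mem h2

/-- `h² ≠ z`. -/
theorem z_sq_absurd (hv : L.h * L.h = E.z) : False := by
  have hζ := E.ζ_one hu hτu hu2 L (hv.symm ▸ mem_zpowers _)
  have hζm : L.h⁻¹ * L.m * L.h * L.m ∈ zpowers E.z := hζ.symm ▸ one_mem _
  have hM := E.comm_mem_m hu hτu hu2 L hζm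
  have hzm := E.z_mem_m hu hτu hu2 L
  let M : Subgroup G := zpowers L.h ⊔ zpowers L.m
  have hzle : zpowers E.z ≤ M := (zpowers_le.2 hzm).trans le_sup_right
  have hhM : L.h ∈ M := mem_sup_left (mem_zpowers _)
  have hmM : L.m ∈ M := mem_sup_right (mem_zpowers _)
  have hhn : ∀ p ∈ zpowers L.m, L.h * p * L.h⁻¹ ∈ zpowers L.m := fun p hp => by
    have h1 := hM L.h L.hS p ((zpowers_le.2 (E.hmS hu hτu hu2 L)) hp)
    have h2 := mul_mem h1 hp
    rwa [inv_mul_cancel_right] at h2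
  have hMmem : ∀ x ∈ M, x ∈ zpowers L.m ∨ L.h⁻¹ * x ∈ zpowers L.m := by
    have hle : zpowers L.h ≤ normalizer (zpowers L.m : Set G) :=
      zpowers_le.2 (Subgroup.mem_normalizer_fintype hhn)
    intro x hx
    obtain ⟨y, hy, p, hp, rfl⟩ : ∃ y ∈ zpowers L.h, ∃ p ∈ zpowers L.m, y * p = x := by
      have h1 : x ∈ (↑(zpowers L.h ⊔ zpowers L.m) : Set G) := hx
      rw [Subgroup.coe_mul_of_left_le_normalizer_right _ _ hle] at h1
      exact h1
    obtain ⟨i, rfl⟩ := mem_zpowers_iff.1 hy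
    rcases Int.even_or_odd' i with ⟨j, rfl | rfl⟩
    · left
      rw [zpow_mul, zpow_two, hv]
      exact mul_mem (zpow_mem hzm j) hp
    · right
      rw [add_comm, zpow_add, zpow_one, zpow_mul, zpow_two, hv, mul_assoc, inv_mul_cancel_left]
      exact mul_mem (zpow_mem hzm j) hp
  have huM : u ∉ M := fun h => by
    rcases hMmem u h with h' | h'
    · exact E.u_not_m hu hτu hu2 L h'
    · obtain ⟨a, ha⟩ := mem_zpowers_iff.1 h'
      refine L.hh (-a) ?_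
      rw [zpow_neg, inv_inv, ha]
      have := E.U_conj hu hτu hu2 (inv_mem L.hS) (E.u_mem_U hu hτu hu2)
      rwa [inv_inv] at this
  refine E.absurd_of_const hu hτu hu2 (fun x hx y hy => mem_sup_right (hM x hx y hy) :
      ∀ x ∈ E.S, ∀ y ∈ E.S, x * y * x⁻¹ * y⁻¹ ∈ M) huM
    (E.not_conj_z (E.sq_involution hu hτu hu2 L hζm (Or.inl (hv.symm ▸ hzm))) E.r_mem
      (E.commute_r hu hτu hu2) rfl (E.u_ne_z hu hτu hu2)) (fun x hx hx2 hx1 hxz => ?_)
  rcases L.hcov x hx with ⟨a, ha⟩ | ⟨a, ha⟩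
  · exact hzle (E.inv_cyclic hu hτu hu2 L ha hx2 hx1 hxz)
  · have hy := (E.sq_off hu hτu hu2 L hζm ha).2 hζ
    have hyM : L.h * L.m ^ a ∈ M := mul_mem hhM (zpow_mem hmM a)
    rcases E.z_mem_zpowers_z hu hτu hu2 ha with h | h
    · exfalso
      obtain ⟨q, hq⟩ : ∃ q, (L.h * L.m ^ a)⁻¹ * x = q := ⟨_, rfl⟩
      rw [hq] at h
      have hxe : x = L.h * L.m ^ a * q := by rw [← hq, mul_inv_cancel_left]
      have hqU : q ∈ E.U u := zpowers_le.2 (E.z_mem_U hu hτu hu2) h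
      rw [hxe, (E.zpow_z_commute (mul_mem L.hS (zpow_mem (E.hmS hu hτu hu2 L) a))
        h).symm.mul_mul_mul_comm, hy, hv, E.U_sq hu hτu hu2 hqU, mul_one] at hx2
      exact E.z_ne_one hx2
    · rw [show x * u⁻¹ = L.h * L.m ^ a * ((L.h * L.m ^ a)⁻¹ * x * u⁻¹) by group]
      exact mul_mem hyM (hzle h)

/-- `h² ≠ 1` when `h` centralizes `u`. -/
theorem one_sq_absurd (hv : L.h * L.h = 1) (hhu : Commute L.h u) : False := by
  have : Fact (Nat.Prime 2) := ⟨Nat.prime_two⟩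
  have hζ := E.ζ_one hu hτu hu2 L (hv.symm ▸ one_mem _)
  have hζm : L.h⁻¹ * L.m * L.h * L.m ∈ zpowers E.z := hζ.symm ▸ one_mem _
  have huc := E.u_central hu hτu hu2 L hhu
  have hsq := E.sq_involution hu hτu hu2 L hζm (Or.inl (hv.symm ▸ one_mem _))
  have hnz := E.not_conj_z hsq E.r_mem (E.commute_r hu hτu hu2) rfl (E.u_ne_z hu hτu hu2)
  refine E.no_central (E.comm_mem_m hu hτu hu2 L hζm) hu hu2 (E.u_not_m hu hτu hu2 L) huc
    fun n hn hnS => ?_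
  have hnN : (⟨n, hn⟩ : E.A) ∈ normalizer ((E.sylA : Subgroup E.A) : Set E.A) :=
    Subgroup.mem_normalizer_fintype fun y hy => E.mem_sylA.2 (hnS _ (E.mem_sylA.1 hy))
  have hnS' : ∀ x ∈ E.S, n⁻¹ * x * n ∈ E.S := fun x hx => by
    have h1 := (mem_normalizer_iff.1 (inv_mem hnN) ⟨x, (E.mem_S.1 hx).2⟩).1 (E.mem_sylA.2 hx)
    rw [inv_inv] at h1
    exact E.mem_sylA.1 h1
  obtain ⟨x, hx⟩ : ∃ x, n⁻¹ * u * n = x := ⟨_, rfl⟩
  have hxS : x ∈ E.S := hx ▸ hnS' u hu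
  have hxc : ∀ y ∈ E.S, Commute x y := by
    intro y hy
    have h1 := huc _ (hnS y hy)
    change x * y = y * x
    rw [← hx]
    calc n⁻¹ * u * n * y = n⁻¹ * (u * (n * y * n⁻¹)) * n := by group
      _ = _ := by rw [← h1]; group
  have hxU : x ∈ E.U u := by
    rcases L.hcov x hxS with ⟨a, ha⟩ | ⟨a, ha⟩
    · refine (E.cyclic_part hu hτu hu2 L.hord (E.w_mem hu hτu hu2 L) L.hmn
        (E.hmS hu hτu hu2 L) ha).2 ?_
      rw [← hx, show n⁻¹ * u * n * (n⁻¹ * u * n) = n⁻¹ * (u * u) * n by group, hu2]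
      group
    · exfalso
      have hmS := E.hmS hu hτu hu2 L
      have hum : ∀ q ∈ E.U u, Commute q L.m := fun q hq => by
        rcases E.mem_U hu hτu hu2 hq with rfl | rfl | rfl | rfl
        · exact Commute.one_left _
        · exact (E.z_commute hmS).symm
        · exact L.hum
        · exact L.hum.mul_left (E.z_commute hmS).symm
      have h1 : Commute L.h L.m := by
        have hh : L.h = x * ((L.h * L.m ^ a)⁻¹ * x)⁻¹ * (L.m ^ a)⁻¹ := by group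
        rw [hh]
        exact ((hxc _ hmS).mul_left (hum _ ha).inv_left).mul_left
          (Commute.zpow_self L.m a).inv_left
      rw [mul_assoc L.h⁻¹, ← h1.eq, inv_mul_cancel_left, ← pow_two] at hζ
      have h2 := orderOf_dvd_of_pow_eq_one hζ
      rw [(E.lift_facts hu hτu hu2 L.hord (E.w_mem hu hτu hu2 L) L.hmn).2.1] at h2
      have := Nat.le_of_dvd two_pos h2
      have := Nat.two_pow_pos L.N
      omega
  have hx1 : x ≠ 1 := fun h => E.u_ne_one hu hτu hu2 (by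
    rw [← hx] at h
    simpa [mul_assoc] using congrArg (fun y => n * y * n⁻¹) h)
  have hxz : x ≠ E.z := fun h => hnz n⁻¹ (inv_mem hn) (by rw [inv_inv, hx, h])
  rw [hx]
  rcases E.mem_U hu hτu hu2 hxU with e | e | e | e
  · exact absurd e hx1
  · exact absurd e hxz
  · exact e
  exfalso
  -- `n` fixes `z` and moves `u`
  have hnz' : n⁻¹ * E.z * n = E.z := by
    have h1 : n⁻¹ * E.z * n = (n⁻¹ * E.r * n) * (n⁻¹ * E.r * n) := by
      rw [show E.z = E.r * E.r from rfl]; group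
    have h2 := hsq _ (hnS' E.r E.r_mem) (by
      rw [← h1, show n⁻¹ * E.z * n * (n⁻¹ * E.z * n) = n⁻¹ * (E.z * E.z) * n by group, E.zz]
      group)
    rw [← h1] at h2
    refine h2.resolve_left fun h => E.z_ne_one ?_
    simpa [mul_assoc] using congrArg (fun y => n * y * n⁻¹) h
  have hpow : ∀ j : ℕ, (n ^ j)⁻¹ * u * n ^ j = u * E.z ^ j := by
    intro j
    induction j with
    | zero => simp
    | succ j ih =>
      rw [pow_succ n, mul_inv_rev, show n⁻¹ * (n ^ j)⁻¹ * u * (n ^ j * n) =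
        n⁻¹ * ((n ^ j)⁻¹ * u * n ^ j) * n by group, ih,
        show n⁻¹ * (u * E.z ^ j) * n = (n⁻¹ * u * n) * (n⁻¹ * E.z ^ j * n) by group, hx, e,
        mul_assoc, pow_succ' E.z]
      congr 2
      have := conj_pow (a := n⁻¹) (b := E.z) (i := j)
      rw [inv_inv, hnz'] at this
      exact this.symm
  obtain ⟨a, b, hb, hab⟩ := Nat.exists_eq_pow_mul_and_not_dvd
    (orderOf_pos (⟨n, hn⟩ : E.A)).ne' 2 (by norm_num)
  have hsup : zpowers ((⟨n, hn⟩ : E.A) ^ b) ⊔ (E.sylA : Subgroup E.A) ≤ (E.sylA : Subgroup E.A) := by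
    refine (E.sylA.3 (IsPGroup.to_sup_of_normal_right' ?_ E.sylA.2
      (zpowers_le.2 (pow_mem hnN b))) le_sup_right).le
    refine IsPGroup.iff_card.2 ?_
    have h2 : orderOf ((⟨n, hn⟩ : E.A) ^ b) ∣ 2 ^ a :=
      orderOf_dvd_of_pow_eq_one (by rw [← pow_mul, mul_comm, ← hab, pow_orderOf_eq_one])
    obtain ⟨c, -, hc⟩ := (Nat.dvd_prime_pow Nat.prime_two).1 h2
    exact ⟨c, by rw [Nat.card_zpowers, hc]⟩
  have hnb : n ^ b ∈ E.S := E.mem_sylA.1 (hsup (mem_sup_left (mem_zpowers _)))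
  have h3 := hpow b
  rw [mul_assoc, ← huc _ hnb, inv_mul_cancel_left] at h3
  obtain ⟨c, hc⟩ := Nat.odd_iff.2 (Nat.two_dvd_ne_zero.1 hb)
  rw [hc, pow_succ, pow_mul, pow_two, E.zz, one_pow, one_mul] at h3
  exact E.z_ne_one (mul_eq_left.1 h3.symm)

end Lift

/-- A twisted involution is absurd. -/
theorem four_absurd : False := by
  rcases E.shape hu hτu hu2 with ⟨g, N, hg, hord, hr, hcov⟩ | ⟨⟨L⟩⟩
  · exact E.cyclic_absurd hu hτu hu2 hg hord hr hcov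
  rcases L.hv with hv | ⟨hv, hN⟩
  swap
  · exact E.root_absurd hu hτu hu2 L hN hv
  rcases E.z_mem_zpowers_z hu hτu hu2 hv with hz | hz
  swap
  · exact E.u_sq_absurd hu hτu hu2 L hz
  rcases E.zpowers_z hz with h1 | hzz
  swap
  · exact E.z_sq_absurd hu hτu hu2 L hzz
  rcases E.conj_u hu hτu hu2 _ L.hS with e | e
  · exact E.one_sq_absurd hu hτu hu2 L h1 (mul_inv_eq_iff_eq_mul.1 e)
  -- replace `h` by `h * u`
  have hmS := E.hmS hu hτu hu2 L
  have hzU := E.z_mem_U hu hτu hu2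
  have huU := E.u_mem_U hu hτu hu2
  have hmem : ∀ a : ℤ, (L.m * E.z) ^ a = L.m ^ a * E.z ^ a := fun a => (E.z_commute hmS).mul_zpow a
  let L' : E.Lift u :=
    { h := L.h * u
      m := L.m * E.z
      N := L.N
      hS := mul_mem L.hS hu
      hm := by
        rw [map_mul, hτu, E.τh hu hτu hu2 L,
          show (L.h * u)⁻¹ * (L.h * L.m * (u * E.z)) = u⁻¹ * (L.m * u) * E.z by group, ← L.hum.eq,
          inv_mul_cancel_left]
      hum := L.hum.mul_right (E.z_commute hu)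
      hh := fun a ha => L.hh a (by
        rw [hmem, mul_inv_rev] at ha
        have h2 : (E.z ^ a) * ((E.z ^ a)⁻¹ * (L.m ^ a)⁻¹ * (L.h * u)) * u⁻¹ ∈ E.U u :=
          mul_mem (mul_mem (zpow_mem hzU a) ha) (inv_mem huU)
        rwa [show (E.z ^ a) * ((E.z ^ a)⁻¹ * (L.m ^ a)⁻¹ * (L.h * u)) * u⁻¹ =
          (L.m ^ a)⁻¹ * L.h by group] at h2)
      hord := fun a => by
        rw [hmem, Subgroup.mul_mem_cancel_right _ (zpow_mem hzU a)]
        exact L.hord a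
      w := L.w * E.z ^ (2 ^ L.N)
      hw := by
        rcases E.zpowers_z (pow_mem (mem_zpowers E.z) (2 ^ L.N)) with h2 | h2 <;> rw [h2]
        · rw [mul_one]; exact L.hw
        · rcases L.hw with h3 | h3 <;> rw [h3]
          · exact Or.inr rfl
          · left; rw [mul_assoc, E.zz, mul_one]
      hmn := by rw [(E.z_commute hmS).mul_pow, L.hmn, mul_assoc]
      hv := Or.inl (by
        rw [show L.h * u * (L.h * u) = L.h * u * L.h⁻¹ * (L.h * L.h) * u by group, e, h1, mul_one]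
        exact mul_mem (mul_mem huU hzU) huU)
      hcov := fun x hx => by
        rcases L.hcov x hx with ⟨a, ha⟩ | ⟨a, ha⟩
        · refine Or.inl ⟨a, ?_⟩
          rw [hmem, mul_inv_rev, mul_assoc]
          exact mul_mem (inv_mem (zpow_mem hzU a)) ha
        · refine Or.inr ⟨a, ?_⟩
          rw [hmem, show (L.h * u * (L.m ^ a * E.z ^ a))⁻¹ * x =
            (E.z ^ a)⁻¹ * ((L.m ^ a)⁻¹ * u⁻¹ * L.m ^ a) * ((L.h * L.m ^ a)⁻¹ * x) by group,
            mul_assoc (L.m ^ a)⁻¹, (L.hum.inv_left.zpow_right a).eq, inv_mul_cancel_left]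
          exact mul_mem (mul_mem (inv_mem (zpow_mem hzU a)) (inv_mem huU)) ha }
  refine E.z_sq_absurd hu hτu hu2 L' ?_
  change L.h * u * (L.h * u) = E.z
  rw [show L.h * u * (L.h * u) = L.h * u * L.h⁻¹ * (L.h * L.h) * u by group, e, h1, mul_one,
    mul_assoc, ← E.z_central hu, ← mul_assoc, hu2, one_mul]

end Env

end CfsgLib.SemisimpleFour
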