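import Cfsg.Agent.Lib.Invol.SemisimpleFour.CaseSD
import Cfsg.Agent.Lib.Invol.SemisimpleFour.FourKill
import Cfsg.Agent.Lib.Comp.Components
import Mathlib.GroupTheory.Transfer

/-!
An involution acting on a perfect group with fixed Sylow `2`-subgroup cyclic of order four: the
`2`-rank is one.
-/

set_option autoImplicit false
set_option linter.unusedSectionVars false

namespace CfsgLib.SemisimpleFour

open Subgroup

variable {G : Type*} [Group G] [Finite G]

theorem Env.uniq (E : Env G) : E.Uniq :=
  E.uniq_of_no_twisted_involution fun _ hu hτu hu2 => E.four_absurd hu hτu hu2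

/-- Isomorphic images of perfect groups. -/
theorem commutator_eq_top_of_equiv {H K : Type*} [Group H] [Group K] (e : H ≃* K)
    (h : commutator H = ⊤) : commutator K = ⊤ := by
  rw [commutator_def] at h ⊢
  rw [← map_top_of_surjective e.toMonoidHom e.surjective, ← map_commutator, h]

/-- A cyclic Sylow `2`-subgroup of a perfect group is trivial. -/
theorem not_perfect_of_cyclic {H : Type*} [Group H] [Finite H] (h : commutator H = ⊤)
    (P : Sylow 2 H) [IsCyclic P] : (P : Subgroup H) = ⊥ := by
  have : Fact (Nat.Prime 2) := ⟨Nat.prime_two⟩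
  by_cases hH : 2 ∣ Nat.card H
  swap
  · obtain ⟨n, hn⟩ := IsPGroup.iff_card.1 P.2
    rcases n with _ | n
    · exact eq_bot_of_card_eq _ hn
    · exact absurd ((dvd_pow_self 2 (by omega)).trans (hn ▸ card_subgroup_dvd_card _)) hH
  have hmin : (Nat.card H).minFac = 2 := by
    refine (Nat.le_antisymm (Nat.minFac_le_of_dvd le_rfl hH) ?_)
    refine (Nat.minFac_prime fun hc => ?_).two_le
    rw [hc] at hH; norm_num at hH
  have hc := IsCyclic.normalizer_le_centralizer (P := P) hmin inferInstance
  let _ : CommGroup (P : Subgroup H) := IsCyclic.commGroup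
  have hco := MonoidHom.ker_transferSylow_isComplement' P hc
  have hker : (MonoidHom.transferSylow P hc).ker = ⊤ := by
    rw [eq_top_iff, ← h]
    exact Abelianization.commutator_subset_ker _
  rw [hker] at hco
  exact isComplement'_top_left.1 hco

/-- The main theorem. -/
theorem rank_one (A : Subgroup G) (hA : commutator A = ⊤) (t : G) (ht : orderOf t = 2)
    (htA : t ∈ normalizer (A : Set G))
    (hC : ∀ R : Sylow 2 ↥(A ⊓ centralizer ({t} : Set G)), IsCyclic R ∧ Nat.card R = 4) :
    Cfsg.PRankLE 2 1 A ∧ ¬ Cfsg.PRankLE 2 0 A := by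
  have : Fact (Nat.Prime 2) := ⟨Nat.prime_two⟩
  have htt : t * t = 1 := by rw [← pow_two, ← ht, pow_orderOf_eq_one]
  set C := A ⊓ centralizer ({t} : Set G) with hCdef
  have memC : ∀ x, x ∈ A → t * x * t = x → x ∈ C := fun x hx h => mem_inf.2 ⟨hx,
    mem_centralizer_singleton_iff.2 (by
      calc x * t = t * x * t * t := by rw [h]
        _ = _ := by rw [mul_assoc (t * x), htt, mul_one])⟩
  have small : ∀ W : Subgroup G, IsPGroup 2 W → W ≤ C →
      Nat.card W ≤ 4 ∧ IsCyclic W := by
    intro W hW hWC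
    obtain ⟨R, hR⟩ := (hW.comap_of_injective C.subtype C.subtype_injective).exists_le_sylow
    obtain ⟨hc, h4⟩ := hC R
    have hle : W ≤ (R : Subgroup C).map C.subtype := fun x hx =>
      ⟨⟨x, hWC hx⟩, hR (mem_subgroupOf.2 hx), rfl⟩
    have hcard : Nat.card ((R : Subgroup C).map C.subtype) = 4 := by
      rw [card_map_of_injective C.subtype_injective]; exact h4
    refine ⟨hcard ▸ card_le_of_le hle, ?_⟩
    have : IsCyclic ((R : Subgroup C).map C.subtype) :=
      (equivMapOfInjective _ _ C.subtype_injective).isCyclic.1 hc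
    exact isCyclic_of_injective _ (inclusion_injective hle)
  have huniq : ∀ e f, e ∈ A → f ∈ A → t * e * t = e → t * f * t = f → e * e = 1 → f * f = 1 →
      e * f = f * e → e ≠ 1 → f ≠ 1 → e = f := by
    intro e f he hf het hft he2 hf2 hef he1 hf1
    have h2 : ∀ x : G, x * x = 1 → IsPGroup 2 (zpowers x) := fun x hx => by
      refine IsPGroup.iff_card.2 ?_
      rw [Nat.card_zpowers]
      obtain ⟨k, -, hk⟩ := (Nat.dvd_prime_pow Nat.prime_two).1
        (show orderOf x ∣ 2 ^ 1 from orderOf_dvd_of_pow_eq_one (by rwa [pow_one, pow_two]))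
      exact ⟨k, hk⟩
    have hn : zpowers e ≤ normalizer (zpowers f : Set G) :=
      zpowers_le.2 (Subgroup.mem_normalizer_fintype fun y hy => by
        obtain ⟨i, rfl⟩ := mem_zpowers_iff.1 hy
        rw [((show Commute e f from hef).zpow_right i).eq, mul_inv_cancel_right]
        exact zpow_mem (mem_zpowers f) i)
    obtain ⟨-, hcyc⟩ := small _ ((h2 e he2).to_sup_of_normal_right' (h2 f hf2) hn)
      (sup_le (zpowers_le.2 (memC e he het)) (zpowers_le.2 (memC f hf hft)))
    obtain ⟨g, hg⟩ := hcyc.exists_generator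
    have key : ∀ x : G, x ∈ zpowers e ⊔ zpowers f → x ∈ zpowers (g : G) := fun x hx => by
      obtain ⟨i, hi⟩ := mem_zpowers_iff.1 (hg ⟨x, hx⟩)
      exact mem_zpowers_iff.2 ⟨i, by simpa using congrArg Subtype.val hi⟩
    have heg := key e (mem_sup_left (mem_zpowers e))
    have hfg := key f (mem_sup_right (mem_zpowers f))
    obtain ⟨n, hn⟩ : 2 ∣ orderOf (g : G) := by
      have := orderOf_dvd_of_mem_zpowers heg
      rwa [orderOf_eq_prime (by rwa [pow_two]) he1] at this
    exact ((sq_one_of_mem_zpowers heg hn he2).resolve_left he1).trans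
      ((sq_one_of_mem_zpowers hfg hn hf2).resolve_left hf1).symm
  obtain ⟨R⟩ : Nonempty (Sylow 2 C) := inferInstance
  obtain ⟨hRc, hR4⟩ := hC R
  obtain ⟨r₀, hr₀⟩ := hRc.exists_generator
  have hr4 : orderOf (r₀ : C) = 4 := by
    rw [Subgroup.orderOf_coe, orderOf_eq_card_of_forall_mem_zpowers hr₀]
    exact hR4
  obtain ⟨r, hrdef⟩ : ∃ r : G, ((r₀ : C) : G) = r := ⟨_, rfl⟩
  have hr : orderOf r = 4 := by rw [← hrdef, Subgroup.orderOf_coe, hr4]
  have hrC : r ∈ C := hrdef ▸ (r₀ : C).2
  obtain ⟨hrA, hrt⟩ := mem_inf.1 hrC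
  replace hrt : t * r * t = r := by
    rw [← mem_centralizer_singleton_iff.1 hrt, mul_assoc, htt, mul_one]
  by_cases hAt : t ∈ A
  · exfalso
    -- the Sylow subgroup of `A` is cyclic
    have htC : t ∈ C := memC t hAt (by rw [htt, one_mul])
    have h2t : IsPGroup 2 (zpowers t) := IsPGroup.iff_card.2 ⟨1, by rw [Nat.card_zpowers, ht]; rfl⟩
    obtain ⟨S, hS⟩ := (h2t.comap_of_injective A.subtype A.subtype_injective).exists_le_sylow
    have htS : (⟨t, hAt⟩ : A) ∈ (S : Subgroup A) := hS (mem_subgroupOf.2 (mem_zpowers t))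
    have : Nontrivial (S : Subgroup A) := ⟨⟨⟨_, htS⟩, 1, fun h => by
      have h' : t = 1 := congrArg (fun x : (S : Subgroup A) => ((x : A) : G)) h
      rw [h', orderOf_one] at ht
      omega⟩⟩
    have := S.2.center_nontrivial
    obtain ⟨c₀, hc₀⟩ := exists_prime_orderOf_dvd_card' (G := Subgroup.center (S : Subgroup A)) 2 (by
      obtain ⟨k, hk0, hk⟩ := (S.2.to_subgroup (Subgroup.center (S : Subgroup A))).nontrivial_iff_card.1
        inferInstance
      rw [hk]; exact dvd_pow_self 2 hk0.ne')
    obtain ⟨c, hcdef⟩ : ∃ c : G, (((c₀ : (S : Subgroup A)) : A) : G) = c := ⟨_, rfl⟩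
    have hc2 : orderOf c = 2 := by
      rw [← hcdef, Subgroup.orderOf_coe, Subgroup.orderOf_coe, Subgroup.orderOf_coe]
      exact hc₀
    have hcc : ∀ x : (S : Subgroup A), ((x : A) : G) * c = c * ((x : A) : G) := fun x => by
      rw [← hcdef]
      exact congrArg (fun y : (S : Subgroup A) => ((y : A) : G)) (mem_center_iff.1 c₀.2 x)
    have hcA : c ∈ A := hcdef ▸ ((c₀ : (S : Subgroup A)) : A).2
    have hct : t * c * t = c := by
      have h1 : t * c = c * t := hcc ⟨_, htS⟩
      rw [h1, mul_assoc, htt, mul_one]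
    have hct' : c = t := huniq c t hcA hAt hct (by rw [htt, one_mul])
      (by rw [← pow_two, ← hc2, pow_orderOf_eq_one]) htt
      (by have h1 : t * c = c * t := hcc ⟨_, htS⟩; exact h1.symm)
      (fun h => by rw [h, orderOf_one] at hc2; omega)
      (fun h => by rw [h, orderOf_one] at ht; omega)
    have hSC : (S : Subgroup A).map A.subtype ≤ C := by
      rintro _ ⟨x, hx, rfl⟩
      refine memC _ x.2 ?_
      have h1 := hcc ⟨x, hx⟩
      rw [hct'] at h1
      change t * (x : G) * t = x
      rw [← h1, mul_assoc, htt, mul_one]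
    obtain ⟨-, hcyc⟩ := small _ (S.2.map _) hSC
    have : IsCyclic S := (equivMapOfInjective _ _ A.subtype_injective).isCyclic.2 hcyc
    have := not_perfect_of_cyclic hA S
    rw [this, mem_bot] at htS
    exact absurd (congrArg Subtype.val htS) (fun h : t = 1 => by rw [h, orderOf_one] at ht; omega)
  -- work in `A ⊔ ⟨t⟩`
  set X := A ⊔ zpowers t with hXdef
  have htX : t ∈ X := mem_sup_right (mem_zpowers t)
  have hAX : A ≤ X := le_sup_left
  have hnorm : ∀ x ∈ A, t * x * t ∈ A := fun x hx => by
    have := (mem_normalizer_iff.1 htA x).1 hx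
    rwa [inv_eq_of_mul_eq_one_right htt] at this
  have hmemX : ∀ x ∈ X, x ∈ A ∨ t * x ∈ A := by
    intro x hx
    have hle : zpowers t ≤ normalizer (A : Set G) := zpowers_le.2 htA
    have h1 : x ∈ (↑(A ⊔ zpowers t) : Set G) := hx
    rw [Subgroup.coe_mul_of_right_le_normalizer_left _ _ hle] at h1
    obtain ⟨a, ha, b, hb, rfl⟩ := h1
    obtain ⟨i, rfl⟩ := mem_zpowers_iff.1 hb
    rcases Int.even_or_odd' i with ⟨j, rfl | rfl⟩
    · left
      change a * t ^ (2 * j) ∈ A
      rw [zpow_mul, zpow_two, htt, one_zpow, mul_one]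
      exact ha
    · right
      change t * (a * t ^ (2 * j + 1)) ∈ A
      rw [add_comm, zpow_add, zpow_one, zpow_mul, zpow_two, htt, one_zpow, mul_one, ← mul_assoc]
      exact hnorm a ha
  let t' : X := ⟨t, htX⟩
  let r' : X := ⟨r, hAX hrA⟩
  have hW : IsPGroup 2 (zpowers r' ⊔ zpowers t' : Subgroup X) := by
    refine IsPGroup.to_sup_of_normal_left' ?_ ?_ (zpowers_le.2
      (Subgroup.mem_normalizer_fintype fun y hy => ?_))
    · exact IsPGroup.iff_card.2 ⟨2, by rw [Nat.card_zpowers, orderOf_mk, hr]; rfl⟩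
    · exact IsPGroup.iff_card.2 ⟨1, by rw [Nat.card_zpowers, orderOf_mk, ht]; rfl⟩
    · obtain ⟨i, rfl⟩ := mem_zpowers_iff.1 hy
      have h : t' * r' * t'⁻¹ = r' := Subtype.ext (by
        change t * r * t⁻¹ = r
        rw [inv_eq_of_mul_eq_one_right htt, hrt])
      rw [← conj_zpow, h]
      exact zpow_mem (mem_zpowers r') i
  obtain ⟨P, hP⟩ := hW.exists_le_sylow
  let E : Env X :=
    { A := A.subgroupOf X
      normal := ⟨fun n hn g => by
        have hn' : (n : G) ∈ A := hn
        have hg : (g : G) ∈ normalizer (A : Set G) :=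
          (sup_le le_normalizer (zpowers_le.2 htA) : X ≤ _) g.2
        exact (mem_normalizer_iff.1 hg _).1 hn'⟩
      t := t'
      htt := Subtype.ext htt
      htA := fun h => hAt h
      cover := fun x => hmemX x x.2
      perfect := commutator_eq_top_of_equiv (subgroupOfEquivOfLe hAX).symm hA
      P := P
      htP := hP (mem_sup_right (mem_zpowers t'))
      r := r'
      orderr := by rw [orderOf_mk, hr]
      hrA := hrA
      hrP := hP (mem_sup_left (mem_zpowers r'))
      hrt := Subtype.ext hrt
      hfixed := fun x hxP hxA hxt => by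
        let W : Subgroup X := (P : Subgroup X) ⊓ C.subgroupOf X
        have hWle : W.map X.subtype ≤ C := by
          rintro _ ⟨y, hy, rfl⟩
          exact mem_subgroupOf.1 (mem_inf.1 hy).2
        obtain ⟨h4, -⟩ := small _ ((P.2.to_le (inf_le_left : W ≤ _)).map _) hWle
        rw [card_map_of_injective X.subtype_injective] at h4
        have hrW : zpowers r' ≤ W :=
          zpowers_le.2 (mem_inf.2 ⟨hP (mem_sup_left (mem_zpowers r')), hrC⟩)
        have heq : zpowers r' = W :=
          eq_of_le_of_card_ge hrW (by rw [Nat.card_zpowers, orderOf_mk, hr]; exact h4)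
        rw [heq]
        exact mem_inf.2 ⟨hxP, memC _ hxA (congrArg Subtype.val hxt)⟩
      huniq := fun e f he hf het hft he2 hf2 hef he1 hf1 => Subtype.ext
        (huniq e f he hf (congrArg Subtype.val het) (congrArg Subtype.val hft)
          (congrArg Subtype.val he2) (congrArg Subtype.val hf2) (congrArg Subtype.val hef)
          (fun h => he1 (Subtype.ext h)) (fun h => hf1 (Subtype.ext h)))
      h8 := fun e he het he8 => by
        refine Subtype.ext ?_
        have he8' : (e : G) ^ 8 = 1 := by simpa using congrArg Subtype.val he8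
        have hp : IsPGroup 2 (zpowers (e : G)) := by
          obtain ⟨k, -, hk⟩ := (Nat.dvd_prime_pow Nat.prime_two).1
            (show orderOf (e : G) ∣ 2 ^ 3 from orderOf_dvd_of_pow_eq_one he8')
          exact IsPGroup.iff_card.2 ⟨k, by rw [Nat.card_zpowers, hk]⟩
        obtain ⟨h4, -⟩ := small _ hp (zpowers_le.2 (memC _ he (congrArg Subtype.val het)))
        rw [Nat.card_zpowers] at h4
        have h8 : orderOf (e : G) ∣ 2 ^ 3 := orderOf_dvd_of_pow_eq_one he8'
        obtain ⟨k, -, hk⟩ := (Nat.dvd_prime_pow Nat.prime_two).1 h8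
        have h : orderOf (e : G) ∣ 4 := by
          rw [hk] at h4 ⊢
          have hk2 : k ≤ 2 := (Nat.pow_le_pow_iff_right Nat.one_lt_two).1
            (h4.trans_eq (by norm_num : 4 = 2 ^ 2))
          exact pow_dvd_pow 2 hk2
        simpa using orderOf_dvd_iff_pow_eq_one.1 h }
  have hU := E.uniq
  refine ⟨?_, ?_⟩
  · intro V _ hV2
    let W : Subgroup X := V.map ((Subgroup.inclusion hAX))
    have hW2 : IsPGroup 2 W := by
      refine fun x => ⟨1, Subtype.ext ?_⟩
      obtain ⟨y, hy, hyx⟩ := x.2
      change (x : X) ^ (2 ^ 1) = 1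
      rw [← hyx, pow_one, ← map_pow, hV2 y hy, map_one]
    have hWA : W ≤ E.A := by
      rintro _ ⟨y, -, rfl⟩
      exact y.2
    obtain ⟨g, -, hg⟩ := E.conj_into_S hW2 hWA
    have hin : ∀ y ∈ V, g * Subgroup.inclusion hAX y * g⁻¹ = 1 ∨
        g * Subgroup.inclusion hAX y * g⁻¹ = E.z := fun y hy => by
      refine hU _ (hg _ ⟨y, hy, rfl⟩) ?_
      rw [show g * Subgroup.inclusion hAX y * g⁻¹ * (g * Subgroup.inclusion hAX y * g⁻¹) =
        g * (Subgroup.inclusion hAX y * Subgroup.inclusion hAX y) * g⁻¹ by group, ← map_mul,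
        ← pow_two, hV2 y hy, map_one]
      group
    calc Nat.card V ≤ Nat.card (zpowers E.z) :=
          Nat.card_le_card_of_injective
            (fun y : V => (⟨g * Subgroup.inclusion hAX y * g⁻¹, by
              rcases hin y y.2 with e | e <;> rw [e]
              · exact one_mem _
              · exact mem_zpowers _⟩ : zpowers E.z))
            (fun a b h => by
              have h1 : g * Subgroup.inclusion hAX (a : A) * g⁻¹ =
                  g * Subgroup.inclusion hAX (b : A) * g⁻¹ := congrArg Subtype.val h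
              exact Subtype.ext (inclusion_injective hAX (mul_left_cancel (mul_right_cancel h1))))
      _ = 2 ^ 1 := by
          rw [Nat.card_zpowers, pow_one]
          exact orderOf_eq_prime (by rw [pow_two]; exact E.zz) E.z_ne_one
  · intro h
    have hzA : (E.z : G) ∈ A := (E.mem_S.1 E.z_mem).2
    have hz2 : (⟨E.z, hzA⟩ : A) ^ 2 = 1 := Subtype.ext (by
      rw [pow_two]; exact congrArg (fun x : X => (x : G)) E.zz)
    have h1 := h (zpowers ⟨E.z, hzA⟩) inferInstance (fun a ha => by
      obtain ⟨i, rfl⟩ := mem_zpowers_iff.1 ha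
      rw [← zpow_natCast, ← zpow_mul, mul_comm, zpow_mul, zpow_natCast, hz2, one_zpow])
    rw [Nat.card_zpowers, pow_zero, orderOf_eq_prime hz2 (fun h' => E.z_ne_one
      (Subtype.ext (congrArg (fun y : A => (y : G)) h')))] at h1
    omega

end CfsgLib.SemisimpleFour
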