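import Cfsg.Agent.Lib.Invol.SemisimpleFour.Twisted
import Mathlib.GroupTheory.IsPerfect
import Mathlib.GroupTheory.Sylow

/-!
A perfect normal subgroup of index two and an involution outside it whose fixed Sylow `2`-subgroup
is cyclic of order four.
-/

set_option autoImplicit false
set_option linter.unusedSectionVars false

namespace CfsgLib.SemisimpleFour

open Subgroup

variable {G : Type*} [Group G] [Finite G]

/-- Sylow's theorem inside a subgroup `C`. -/
theorem conj_into {C P₀ W : Subgroup G} (hP : IsPGroup 2 P₀) (hPC : P₀ ≤ C)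
    (hmax : ∀ V : Subgroup G, IsPGroup 2 V → V ≤ C → P₀ ≤ V → V ≤ P₀)
    (hW : IsPGroup 2 W) (hWC : W ≤ C) : ∃ c ∈ C, ∀ x ∈ W, c * x * c⁻¹ ∈ P₀ := by
  have : Fact (Nat.Prime 2) := ⟨Nat.prime_two⟩
  obtain ⟨R, hR⟩ := (hP.comap_of_injective C.subtype C.subtype_injective).exists_le_sylow
  obtain ⟨R', hR'⟩ := (hW.comap_of_injective C.subtype C.subtype_injective).exists_le_sylow
  obtain ⟨c, hc⟩ := MulAction.exists_smul_eq C R' R
  refine ⟨c, c.2, fun x hx => ?_⟩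
  have h1 : (R : Subgroup C).map C.subtype ≤ P₀ :=
    hmax _ (R.2.map _) (map_subtype_le _) fun y hy =>
      ⟨⟨y, hPC hy⟩, hR (mem_subgroupOf.2 hy), rfl⟩
  have h2 : (c : C) * ⟨x, hWC hx⟩ * c⁻¹ ∈ R := by
    rw [← hc]
    exact ⟨⟨x, hWC hx⟩, hR' (mem_subgroupOf.2 hx), rfl⟩
  exact h1 ⟨_, h2, rfl⟩

/-- The configuration. -/
structure Env (G : Type*) [Group G] where
  /-- The perfect normal subgroup. -/
  A : Subgroup G
  normal : A.Normal
  /-- The involution. -/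
  t : G
  htt : t * t = 1
  htA : t ∉ A
  cover : ∀ x, x ∈ A ∨ t * x ∈ A
  perfect : commutator A = ⊤
  /-- A Sylow subgroup containing `t` and `r`. -/
  P : Sylow 2 G
  htP : t ∈ P
  /-- A generator of the fixed Sylow subgroup. -/
  r : G
  orderr : orderOf r = 4
  hrA : r ∈ A
  hrP : r ∈ P
  hrt : t * r * t = r
  hfixed : ∀ x ∈ P, x ∈ A → t * x * t = x → x ∈ zpowers r
  huniq : ∀ e f, e ∈ A → f ∈ A → t * e * t = e → t * f * t = f → e * e = 1 → f * f = 1 →
    e * f = f * e → e ≠ 1 → f ≠ 1 → e = f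
  h8 : ∀ e ∈ A, t * e * t = e → e ^ 8 = 1 → e ^ 4 = 1

namespace Env

variable (E : Env G)

/-- The Sylow subgroup of `A`. -/
def S : Subgroup G := (E.P : Subgroup G) ⊓ E.A

/-- The involution `r²`. -/
def z : G := E.r * E.r

/-- Conjugation by `t`. -/
def τ : G ≃* G := MulAut.conj E.t

/-- The conclusion. -/
def Uniq : Prop := ∀ x ∈ E.S, x * x = 1 → x = 1 ∨ x = E.z

theorem mem_S {x : G} : x ∈ E.S ↔ x ∈ (E.P : Subgroup G) ∧ x ∈ E.A := mem_inf

theorem t_inv : E.t⁻¹ = E.t := inv_eq_of_mul_eq_one_right E.htt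

theorem τ_apply (x : G) : E.τ x = E.t * x * E.t := by
  change E.t * x * E.t⁻¹ = _
  rw [E.t_inv]

theorem τ_τ (x : G) : E.τ (E.τ x) = x := by
  simp only [E.τ_apply, ← mul_assoc, E.htt, one_mul]
  rw [mul_assoc, E.htt, mul_one]

theorem τ_mem_P {x : G} (hx : x ∈ (E.P : Subgroup G)) : E.τ x ∈ (E.P : Subgroup G) := by
  rw [E.τ_apply]
  exact mul_mem (mul_mem E.htP hx) E.htP

theorem τ_mem_A {x : G} (hx : x ∈ E.A) : E.τ x ∈ E.A := E.normal.conj_mem x hx E.t

theorem τ_mem_S {x : G} (hx : x ∈ E.S) : E.τ x ∈ E.S :=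
  E.mem_S.2 ⟨E.τ_mem_P (E.mem_S.1 hx).1, E.τ_mem_A (E.mem_S.1 hx).2⟩

theorem r_mem : E.r ∈ E.S := E.mem_S.2 ⟨E.hrP, E.hrA⟩

theorem z_mem : E.z ∈ E.S := mul_mem E.r_mem E.r_mem

theorem τ_r : E.τ E.r = E.r := by rw [E.τ_apply, E.hrt]

theorem τ_z : E.τ E.z = E.z := by rw [z, map_mul, E.τ_r]

theorem r_ne_one : E.r ≠ 1 := fun h => by simpa [h] using E.orderr

theorem z_ne_one : E.z ≠ 1 := fun h => by
  have := orderOf_dvd_of_pow_eq_one (n := 2) (x := E.r) (by rw [pow_two]; exact h)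
  rw [E.orderr] at this
  norm_num at this

theorem r_pow_four : E.r ^ 4 = 1 := E.orderr ▸ pow_orderOf_eq_one E.r

theorem zz : E.z * E.z = 1 := by
  rw [← E.r_pow_four, z]
  simp [pow_succ, mul_assoc]

theorem z_inv : E.z⁻¹ = E.z := inv_eq_of_mul_eq_one_right E.zz

theorem r_inv : E.r⁻¹ = E.r * E.z := inv_eq_of_mul_eq_one_right (by
  rw [← E.r_pow_four, z]
  simp [pow_succ, mul_assoc])

theorem zpowers_r {x : G} (hx : x ∈ zpowers E.r) :
    x = 1 ∨ x = E.r ∨ x = E.z ∨ x = E.r * E.z := by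
  obtain ⟨n, rfl⟩ := (Submonoid.mem_powers_iff _ _).1
    ((mem_powers_iff_mem_zpowers (x := E.r)).2 hx)
  rw [← pow_mod_orderOf, E.orderr]
  have : n % 4 < 4 := Nat.mod_lt _ (by norm_num)
  interval_cases n % 4 <;> simp [z, pow_succ, mul_assoc]

theorem fixed {x : G} (hx : x ∈ E.S) (h : E.τ x = x) :
    x = 1 ∨ x = E.r ∨ x = E.z ∨ x = E.r * E.z :=
  E.zpowers_r (E.hfixed x (E.mem_S.1 hx).1 (E.mem_S.1 hx).2 (E.τ_apply x ▸ h))

theorem sq_one_fixed {x : G} (hx : x ∈ E.S) (h : E.τ x = x) (h2 : x * x = 1) :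
    x = 1 ∨ x = E.z := by
  rcases E.fixed hx h with rfl | rfl | rfl | rfl
  · exact Or.inl rfl
  · exact absurd h2 E.z_ne_one
  · exact Or.inr rfl
  · refine absurd ?_ E.z_ne_one
    rw [← E.r_inv, ← mul_inv_rev, inv_eq_one] at h2
    exact h2

theorem isPGroup_S : IsPGroup 2 E.S := E.P.2.to_le inf_le_left

theorem τ_twist (x : G) : E.τ (x⁻¹ * E.τ x) = (x⁻¹ * E.τ x)⁻¹ := by
  rw [map_mul, map_inv, E.τ_τ]; group

/-- The grow step in `S`. -/
theorem grow {L T : Subgroup G} (hTS : T ≤ E.S) (hTσ : ∀ x ∈ T, E.τ x ∈ T)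
    (hLσ : ∀ x ∈ L, E.τ x ∈ L) (hlt : L < T) :
    ∃ h ∈ T, h ∉ L ∧ h ∈ normalizer (L : Set G) ∧ h⁻¹ * E.τ h ∈ L :=
  SemisimpleFour.grow E.τ E.τ_τ (E.isPGroup_S.to_le hTS) hTσ hLσ hlt

theorem z_central {x : G} (hx : x ∈ E.S) : x * E.z = E.z * x := by
  set T := E.S ⊓ centralizer (E.S : Set G) with hT
  have hne : ⊥ < T := by
    have : Fact (Nat.Prime 2) := ⟨Nat.prime_two⟩
    have : Nontrivial E.S := ⟨⟨⟨E.r, E.r_mem⟩, 1, fun h => E.r_ne_one (congrArg Subtype.val h)⟩⟩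
    have := E.isPGroup_S.center_nontrivial
    obtain ⟨⟨c, hc⟩, hc1⟩ := exists_ne (1 : Subgroup.center E.S)
    refine bot_lt_iff_ne_bot.2 fun h => hc1 (Subtype.ext (Subtype.ext ?_))
    refine mem_bot.1 (h ▸ mem_inf.2 ⟨c.2, mem_centralizer_iff.2 fun y hy => ?_⟩ : (c : G) ∈ (⊥ : Subgroup G))
    exact congrArg Subtype.val (mem_center_iff.1 hc ⟨y, hy⟩)
  obtain ⟨h, hh, hh1, -, hc⟩ := E.grow (L := ⊥) (T := T) inf_le_left (fun y hy => by
    refine mem_inf.2 ⟨E.τ_mem_S (mem_inf.1 hy).1, mem_centralizer_iff.2 fun w hw => ?_⟩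
    have := congrArg E.τ (mem_centralizer_iff.1 (mem_inf.1 hy).2 _ (E.τ_mem_S hw))
    rwa [map_mul, map_mul, E.τ_τ] at this) (fun y hy => by
      rw [mem_bot] at hy ⊢; rw [hy, map_one]) hne
  rw [mem_bot] at hh1
  rw [mem_bot, inv_mul_eq_one] at hc
  obtain ⟨hS, hC⟩ := mem_inf.1 hh
  have hcomm := mem_centralizer_iff.1 hC x hx
  rcases E.fixed hS hc.symm with rfl | rfl | rfl | rfl
  · exact absurd rfl hh1
  · exact Commute.mul_right (hcomm : Commute x E.r) hcomm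
  · exact hcomm
  · rw [← E.r_inv] at hcomm
    have h0 : Commute x E.r⁻¹ := hcomm
    have h1 : Commute x E.r := by simpa using h0.inv_right
    exact h1.mul_right h1

theorem twist_cases {x : G} (hx : x ∈ E.S) (h : x⁻¹ * E.τ x ∈ zpowers E.r) :
    E.τ x = x ∨ E.τ x = x * E.z := by
  have h1 : E.τ (x⁻¹ * E.τ x) = x⁻¹ * E.τ x := by
    obtain ⟨a, ha⟩ := mem_zpowers_iff.1 h
    rw [← ha, map_zpow, E.τ_r]
  have h2 : (x⁻¹ * E.τ x) * (x⁻¹ * E.τ x) = 1 := by
    nth_rewrite 1 [← h1]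
    rw [E.τ_twist]; group
  rcases E.sq_one_fixed (mul_mem (inv_mem hx) (E.τ_mem_S hx)) h1 h2 with e | e
  · exact Or.inl (inv_mul_eq_one.1 e).symm
  · exact Or.inr (inv_mul_eq_iff_eq_mul.1 e)

theorem coset_K {k k' : G} (hk : k ∈ E.S) (hk' : k' ∈ E.S) (h : E.τ k = k * E.z)
    (h' : E.τ k' = k' * E.z) : k⁻¹ * k' ∈ zpowers E.r := by
  have hS := mul_mem (inv_mem hk) hk'
  refine E.hfixed _ (E.mem_S.1 hS).1 (E.mem_S.1 hS).2 ?_
  rw [← E.τ_apply, map_mul, map_inv, h, h', mul_inv_rev, E.z_inv, E.z_central hk',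
    ← E.z_central (inv_mem hk), mul_assoc, ← mul_assoc E.z, E.zz, one_mul]

theorem τ_zpowers_r {x : G} (hx : x ∈ zpowers E.r) : E.τ x ∈ zpowers E.r := by
  obtain ⟨a, rfl⟩ := mem_zpowers_iff.1 hx
  rw [map_zpow, E.τ_r]
  exact zpow_mem (mem_zpowers _) a

theorem exists_K (h : ¬ ∀ x ∈ E.S, x ∈ zpowers E.r) : ∃ k ∈ E.S, E.τ k = k * E.z := by
  obtain ⟨k, hk, hk', -, hc⟩ := E.grow (L := zpowers E.r) le_rfl (fun x => E.τ_mem_S)
    (fun x hx => E.τ_zpowers_r hx)
    (lt_of_le_of_ne (zpowers_le.2 E.r_mem) fun e => h fun x hx => e ▸ hx)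
  rcases E.twist_cases hk hc with e | e
  · exact absurd (E.hfixed k (E.mem_S.1 hk).1 (E.mem_S.1 hk).2 (E.τ_apply k ▸ e)) hk'
  · exact ⟨k, hk, e⟩

theorem index_A : E.A.index = 2 := by
  refine index_eq_two_iff.2 ⟨E.t, fun b => ?_⟩
  by_cases hb : b ∈ E.A
  · exact Or.inr ⟨hb, fun h => E.htA ((Subgroup.mul_mem_cancel_left _ hb).1 h)⟩
  · refine Or.inl ⟨?_, hb⟩
    have h1 := (E.cover b).resolve_left hb
    have := E.normal.conj_mem _ h1 E.t
    rwa [← mul_assoc, E.htt, one_mul, E.t_inv] at this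

theorem index_S : (E.S.subgroupOf E.A).index = (E.P : Subgroup G).index := by
  have : Fact (Nat.Prime 2) := ⟨Nat.prime_two⟩
  have h1 : E.A.relIndex (E.P : Subgroup G) = 2 := by
    have := E.normal
    rcases (Nat.dvd_prime Nat.prime_two).1
      (E.index_A ▸ relIndex_dvd_index_of_normal E.A (E.P : Subgroup G)) with h | h
    · exact absurd (relIndex_eq_one.1 h E.htP) E.htA
    · exact h
  have h2 : Nat.card E.S * 2 = Nat.card (E.P : Subgroup G) := by
    calc Nat.card E.S * 2 = Nat.card ((E.A.subgroupOf (E.P : Subgroup G)).map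
          (E.P : Subgroup G).subtype) * E.A.relIndex (E.P : Subgroup G) := by
          rw [subgroupOf_map_subtype, h1, S, inf_comm]
      _ = Nat.card (E.A.subgroupOf (E.P : Subgroup G)) *
          (E.A.subgroupOf (E.P : Subgroup G)).index := by
          rw [card_map_of_injective (E.P : Subgroup G).subtype_injective]; rfl
      _ = _ := card_mul_index _
  have h3 := (E.S.subgroupOf E.A).card_mul_index
  have h4 := (E.P : Subgroup G).card_mul_index
  have h5 := E.A.card_mul_index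
  rw [Nat.card_congr (subgroupOfEquivOfLe (show E.S ≤ E.A from inf_le_right)).toEquiv] at h3
  rw [E.index_A] at h5
  have hpos : 0 < Nat.card (E.P : Subgroup G) := Nat.card_pos
  refine Nat.eq_of_mul_eq_mul_left hpos ?_
  rw [h4, ← h2, ← h5, ← h3]
  ring

/-- The Sylow subgroup `S` of `A`. -/
noncomputable def sylA : Sylow 2 E.A :=
  have : Fact (Nat.Prime 2) := ⟨Nat.prime_two⟩
  (E.isPGroup_S.comap_of_injective E.A.subtype E.A.subtype_injective).toSylow
    (by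
      change ¬ 2 ∣ (E.S.subgroupOf E.A).index
      rw [E.index_S]
      exact E.P.not_dvd_index)

theorem mem_sylA {x : E.A} : x ∈ (E.sylA : Subgroup E.A) ↔ (x : G) ∈ E.S := Iff.rfl

theorem S_max {V : Subgroup G} (hV : IsPGroup 2 V) (hVA : V ≤ E.A) (hSV : E.S ≤ V) : V ≤ E.S := by
  intro x hx
  have h := E.sylA.3 (hV.comap_of_injective E.A.subtype E.A.subtype_injective)
    (fun y hy => hSV (E.mem_sylA.1 hy))
  have h2 : (⟨x, hVA hx⟩ : E.A) ∈ (E.sylA : Subgroup E.A) := h ▸ (mem_subgroupOf.2 hx :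
    (⟨x, hVA hx⟩ : E.A) ∈ V.subgroupOf E.A)
  exact E.mem_sylA.1 h2

theorem conj_into_S {W : Subgroup G} (hW : IsPGroup 2 W) (hWA : W ≤ E.A) :
    ∃ g ∈ E.A, ∀ x ∈ W, g * x * g⁻¹ ∈ E.S :=
  conj_into E.isPGroup_S inf_le_right (fun _ => E.S_max) hW hWA

theorem hom_trivial {Q : Type*} [CommGroup Q] (ψ : E.A →* Q) : ψ = 1 := by
  ext x
  exact MonoidHom.mem_ker.1 (Abelianization.commutator_subset_ker ψ (E.perfect.symm ▸ mem_top x))

section Transfer

variable {N : Subgroup G} (hN : ∀ a ∈ E.S, ∀ b ∈ E.S, a * b * a⁻¹ * b⁻¹ ∈ N)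
include hN

theorem normal_N : ((N.subgroupOf E.A).subgroupOf (E.sylA : Subgroup E.A)).Normal := by
  refine ⟨fun n hn s => ?_⟩
  have h : (s : G) * n * (s : G)⁻¹ * (n : G)⁻¹ ∈ N :=
    hN _ (E.mem_sylA.1 s.2) _ (E.mem_sylA.1 n.2)
  have hn' : (n : G) ∈ N := hn
  have := mul_mem h hn'
  rw [inv_mul_cancel_right] at this
  exact this

/-- An involution all of whose conjugates in `S` are congruent lies in `N`. -/
theorem no_const {u : G} (hu : u ∈ E.S) (hu2 : u * u = 1) (huN : u ∉ N)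
    (h : ∀ g ∈ E.A, g⁻¹ * u * g ∈ E.S → g⁻¹ * u * g * u⁻¹ ∈ N) : False := by
  have := E.normal_N hN
  let φ := QuotientGroup.mk' ((N.subgroupOf E.A).subgroupOf (E.sylA : Subgroup E.A))
  let _ : CommGroup ((E.sylA : Subgroup E.A) ⧸ (N.subgroupOf E.A).subgroupOf (E.sylA : Subgroup E.A)) :=
    { (inferInstance : Group _) with
      mul_comm := fun a b => QuotientGroup.induction_on a fun x => QuotientGroup.induction_on b
        fun y => by
          refine QuotientGroup.eq.2 ?_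
          change ((x : G) * y)⁻¹ * ((y : G) * x) ∈ N
          have := hN _ (inv_mem (E.mem_sylA.1 y.2)) _ (inv_mem (E.mem_sylA.1 x.2))
          convert this using 1
          group }
  have h1 := transfer_of_const E.sylA φ (fun ψ => E.hom_trivial ψ)
    (u := (⟨u, (E.mem_S.1 hu).2⟩ : E.A)) (Subtype.ext hu2) hu (fun g hg => by
      refine (QuotientGroup.eq_iff_div_mem).2 ?_
      change (g : G)⁻¹ * u * g / u ∈ N
      rw [div_eq_mul_inv]
      exact h g g.2 hg)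
  exact huN ((QuotientGroup.eq_one_iff
    (N := (N.subgroupOf E.A).subgroupOf (E.sylA : Subgroup E.A)) _).1 h1)

/-- A central involution fixed by the normalizer lies in `N`. -/
theorem no_central {u : G} (hu : u ∈ E.S) (hu2 : u * u = 1) (huN : u ∉ N)
    (huc : ∀ x ∈ E.S, x * u = u * x)
    (h : ∀ n ∈ E.A, (∀ x ∈ E.S, n * x * n⁻¹ ∈ E.S) → n⁻¹ * u * n = u) : False := by
  have := E.normal_N hN
  let φ := QuotientGroup.mk' ((N.subgroupOf E.A).subgroupOf (E.sylA : Subgroup E.A))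
  let _ : CommGroup ((E.sylA : Subgroup E.A) ⧸ (N.subgroupOf E.A).subgroupOf (E.sylA : Subgroup E.A)) :=
    { (inferInstance : Group _) with
      mul_comm := fun a b => QuotientGroup.induction_on a fun x => QuotientGroup.induction_on b
        fun y => by
          refine QuotientGroup.eq.2 ?_
          change ((x : G) * y)⁻¹ * ((y : G) * x) ∈ N
          have := hN _ (inv_mem (E.mem_sylA.1 y.2)) _ (inv_mem (E.mem_sylA.1 x.2))
          convert this using 1
          group }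
  have h1 := transfer_of_central E.sylA φ (fun ψ => E.hom_trivial ψ)
    (u := (⟨u, (E.mem_S.1 hu).2⟩ : E.A)) (Subtype.ext hu2) hu
    (fun x hx => Subtype.ext (huc x hx)) (fun n hn => Subtype.ext (h n n.2 fun x hx => ?_))
  · exact huN ((QuotientGroup.eq_one_iff
      (N := (N.subgroupOf E.A).subgroupOf (E.sylA : Subgroup E.A)) _).1 h1)
  · exact (mem_normalizer_iff.1 hn ⟨x, (E.mem_S.1 hx).2⟩).1 hx

end Transfer

/-- An involution commuting with a square root of `z` is not conjugate to `z`. -/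
theorem not_conj_z (hsq : ∀ x ∈ E.S, x * x * (x * x) = 1 → x * x = 1 ∨ x * x = E.z)
    {u f : G} (hf : f ∈ E.S) (huf : u * f = f * u) (hff : f * f = E.z)
    (hune : u ≠ E.z) : ∀ g ∈ E.A, g * u * g⁻¹ ≠ E.z := by
  intro g hg he
  set C := E.A ⊓ centralizer ({E.z} : Set G)
  have hSC : E.S ≤ C := fun x hx => mem_inf.2 ⟨(E.mem_S.1 hx).2,
    mem_centralizer_singleton_iff.2 (E.z_central hx)⟩
  have hw : g * f * g⁻¹ ∈ C := by
    refine mem_inf.2 ⟨mul_mem (mul_mem hg (E.mem_S.1 hf).2) (inv_mem hg),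
      mem_centralizer_singleton_iff.2 ?_⟩
    rw [← he]
    calc g * f * g⁻¹ * (g * u * g⁻¹) = g * (f * u) * g⁻¹ := by group
      _ = g * u * g⁻¹ * (g * f * g⁻¹) := by rw [← huf]; group
  have hf2 : IsPGroup 2 (zpowers (g * f * g⁻¹)) := by
    rw [show g * f * g⁻¹ = MulAut.conj g f from rfl, ← MonoidHom.coe_coe, ← MonoidHom.map_zpowers]
    exact (E.isPGroup_S.to_le (zpowers_le.2 hf)).map _
  obtain ⟨c, hc, hcf⟩ := conj_into E.isPGroup_S hSC
    (fun V hV hVC hSV => E.S_max hV (hVC.trans inf_le_left) hSV) hf2 (zpowers_le.2 hw)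
  have hx := hcf _ (mem_zpowers _)
  have hcz : c * E.z = E.z * c := mem_centralizer_singleton_iff.1 (mem_inf.1 hc).2
  have he2 : c * (g * f * g⁻¹) * c⁻¹ * (c * (g * f * g⁻¹) * c⁻¹) = c * g * E.z * (c * g)⁻¹ := by
    rw [← hff]; group
  rcases hsq _ hx (by
      rw [he2]
      calc c * g * E.z * (c * g)⁻¹ * (c * g * E.z * (c * g)⁻¹) =
          c * g * (E.z * E.z) * (c * g)⁻¹ := by group
        _ = 1 := by rw [E.zz]; group) with e | e
  · rw [he2, conj_eq_one_iff] at e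
    exact E.z_ne_one e
  · rw [he2] at e
    refine hune (MulAut.conj (c * g) |>.injective ?_)
    change c * g * u * (c * g)⁻¹ = c * g * E.z * (c * g)⁻¹
    rw [e, show c * g * u * (c * g)⁻¹ = c * (g * u * g⁻¹) * c⁻¹ by group, he, hcz]
    group

end Env

end CfsgLib.SemisimpleFour
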