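import Cfsg.Agent.Lib.Transfer.Thompson
import Mathlib.GroupTheory.Perm.Cycle.Type

/-!
Transfer of an involution into an abelian quotient of a Sylow 2-subgroup.
-/

set_option autoImplicit false
set_option linter.unusedSectionVars false

namespace CfsgLib.SemisimpleFour

open Subgroup MulAction

variable {G : Type*} [Group G] [Finite G]

/-- An involution of a finite set has evenly many fixed points when the set has evenly many points. -/
theorem exists_fixed_ne {α : Type*} [Finite α] (f : α → α) (hf : Function.Involutive f)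
    (h2 : 2 ∣ Nat.card α) {a : α} (ha : f a = a) : ∃ b, b ≠ a ∧ f b = b := by
  classical
  have := Fintype.ofFinite α
  have hσ : (hf.toPerm f) ^ 2 ^ 1 = 1 := by
    ext x
    simp [pow_two, hf x]
  have := Equiv.Perm.card_compl_support_modEq (p := 2) (n := 1) hσ
  rw [Nat.card_eq_fintype_card] at h2
  have h0 : 2 ∣ (hf.toPerm f).supportᶜ.card := Nat.modEq_zero_iff_dvd.1
    (this.trans (Nat.modEq_zero_iff_dvd.2 h2))
  obtain ⟨b, hb, hba⟩ := Finset.exists_mem_ne (s := (hf.toPerm f).supportᶜ) (by
    have h1 : 0 < (hf.toPerm f).supportᶜ.card := Finset.card_pos.2 ⟨a, by simp [ha]⟩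
    have := Nat.le_of_dvd h1 h0
    omega) a
  exact ⟨b, hba, by simpa using hb⟩

variable (P : Sylow 2 G) {Q : Type*} [CommGroup Q] (φ : (P : Subgroup G) →* Q)

theorem mk_mul_out {H : Subgroup G} (x : G) (c : G ⧸ H) :
    ((x * c.out : G) : G ⧸ H) = x • c := by
  conv_rhs => rw [← QuotientGroup.out_eq' c]
  rfl

theorem conj_out_mem {H : Subgroup G} {u : G} {c : G ⧸ H} (h : u • c = c) :
    c.out⁻¹ * u * c.out ∈ H := by
  have h1 : ((u * c.out : G) : G ⧸ H) = (c.out : G) := by
    rw [mk_mul_out, QuotientGroup.out_eq']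
    exact h
  simpa [mul_assoc] using QuotientGroup.eq.1 h1.symm

open Classical in
/-- The contribution of a coset to the transfer of `u`. -/
noncomputable def term (u : G) (c : G ⧸ (P : Subgroup G)) : Q :=
  if h : u • c = c then φ ⟨c.out⁻¹ * u * c.out, conj_out_mem h⟩ else 1

/-- The transfer of an involution is the product of the terms. -/
theorem transfer_eq_prod {u : G} (hu : u * u = 1) [Fintype (G ⧸ (P : Subgroup G))] :
    MonoidHom.transfer φ u = ∏ c : G ⧸ (P : Subgroup G), term P φ u c := by
  classical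
  let _ : Fintype (Quotient (orbitRel (zpowers u) (G ⧸ (P : Subgroup G)))) := Fintype.ofFinite _
  have h2 : ∀ c : G ⧸ (P : Subgroup G), u • u • c = c := fun c => by rw [smul_smul, hu, one_smul]
  rw [MonoidHom.transfer_eq_prod_quotient_orbitRel_zpowers_quot]
  conv_rhs => rw [← Finset.prod_filter_mul_prod_filter_not Finset.univ (fun c => u • c = c)]
  rw [Finset.prod_eq_one (s := Finset.univ.filter fun c => ¬ u • c = c)
    (fun c hc => by rw [term.eq_1, dif_neg (Finset.mem_filter.1 hc).2]), mul_one]
  rw [← Finset.prod_filter_mul_prod_filter_not Finset.univ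
    (fun q : Quotient (orbitRel (zpowers u) (G ⧸ (P : Subgroup G))) =>
      u • (q.out : G ⧸ (P : Subgroup G)) = q.out)]
  rw [Finset.prod_eq_one (s := Finset.univ.filter fun q : Quotient (orbitRel (zpowers u)
    (G ⧸ (P : Subgroup G))) => ¬ u • (q.out : G ⧸ (P : Subgroup G)) = q.out) (fun q hq => ?_),
    mul_one]
  · refine Finset.prod_bij' (fun q _ => q.out) (fun c _ => Quotient.mk'' c) ?_ ?_ ?_ ?_ ?_
    · intro q hq
      exact Finset.mem_filter.2 ⟨Finset.mem_univ _, (Finset.mem_filter.1 hq).2⟩
    · intro c hc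
      refine Finset.mem_filter.2 ⟨Finset.mem_univ _, ?_⟩
      obtain ⟨⟨w, hw⟩, he⟩ := orbitRel_apply.1 (Quotient.mk_out' (s₁ := orbitRel (zpowers u) _) c)
      obtain ⟨i, rfl⟩ := mem_zpowers_iff.1 hw
      have hfix : u ^ i • c = c :=
        zpowers_le.2 (mem_stabilizer_iff.2 (Finset.mem_filter.1 hc).2)
          (Subgroup.zpow_mem_zpowers u i)
      change u ^ i • c = _ at he
      rw [← he, hfix]
      exact (Finset.mem_filter.1 hc).2
    · intro q _
      exact Quotient.out_eq' q
    · intro c hc
      obtain ⟨⟨w, hw⟩, he⟩ := orbitRel_apply.1 (Quotient.mk_out' (s₁ := orbitRel (zpowers u) _) c)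
      obtain ⟨i, rfl⟩ := mem_zpowers_iff.1 hw
      change u ^ i • c = _ at he
      rw [← he]
      exact zpowers_le.2 (mem_stabilizer_iff.2 (Finset.mem_filter.1 hc).2)
        (Subgroup.zpow_mem_zpowers u i)
    · intro q hq
      have hq' := (Finset.mem_filter.1 hq).2
      have hm : Function.minimalPeriod (u • ·) q.out = 1 :=
        Function.minimalPeriod_eq_one_iff_isFixedPt.2 hq'
      rw [term.eq_1, dif_pos hq']
      congr 1
      ext
      simp [hm]
  · have hne := (Finset.mem_filter.1 hq).2
    have hm : Function.minimalPeriod (u • ·) q.out = 2 := by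
      have hd : Function.minimalPeriod (u • ·) q.out ∣ 2 :=
        Function.IsPeriodicPt.minimalPeriod_dvd (h2 q.out)
      rcases (Nat.dvd_prime Nat.prime_two).1 hd with h | h
      · exact absurd (Function.minimalPeriod_eq_one_iff_isFixedPt.1 h) hne
      · exact h
    refine (congrArg φ (Subtype.ext ?_)).trans (map_one φ)
    simp [hm, pow_two, hu]

theorem odd_card_quotient : Odd (Nat.card (G ⧸ (P : Subgroup G))) := by
  rw [← Subgroup.index_eq_card]
  exact Nat.not_even_iff_odd.1 fun h => P.not_dvd_index (even_iff_two_dvd.1 h)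

/-- All conjugates in `P` have one value. -/
theorem transfer_of_const (hφ : ∀ ψ : G →* Q, ψ = 1) {u : G} (hu : u * u = 1)
    (huP : u ∈ (P : Subgroup G))
    (h : ∀ (g : G) (hg : g⁻¹ * u * g ∈ (P : Subgroup G)),
      φ ⟨g⁻¹ * u * g, hg⟩ = φ ⟨u, huP⟩) : φ ⟨u, huP⟩ = 1 := by
  classical
  have := Fintype.ofFinite (G ⧸ (P : Subgroup G))
  have h1 := transfer_eq_prod P φ hu
  rw [hφ (MonoidHom.transfer φ)] at h1
  have hsq : φ ⟨u, huP⟩ ^ 2 = 1 := by
    rw [← map_pow, ← map_one φ]
    exact congrArg φ (Subtype.ext (by rw [pow_two]; exact hu))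
  rw [← Finset.prod_filter_mul_prod_filter_not Finset.univ (fun c => u • c = c),
    Finset.prod_eq_one (s := Finset.univ.filter fun c => ¬ u • c = c)
    (fun c hc => by rw [term.eq_1, dif_neg (Finset.mem_filter.1 hc).2]), mul_one,
    Finset.prod_congr rfl (g := fun _ => φ ⟨u, huP⟩) (fun c hc => by
      rw [term.eq_1, dif_pos (Finset.mem_filter.1 hc).2]; exact h _ _), Finset.prod_const] at h1
  have hf : Function.Involutive (fun c : G ⧸ (P : Subgroup G) => u • c) := fun c => by
    simp only [smul_smul, hu, one_smul]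
  have hmod := Equiv.Perm.card_compl_support_modEq (p := 2) (n := 1) (σ := hf.toPerm _) (by
    ext c; simp [pow_two, smul_smul, hu])
  have hset : (hf.toPerm (fun c : G ⧸ (P : Subgroup G) => u • c)).supportᶜ =
      Finset.univ.filter fun c => u • c = c := by ext c; simp
  rw [hset] at hmod
  unfold Nat.ModEq at hmod
  obtain ⟨j, hj⟩ : Odd (Finset.univ.filter fun c : G ⧸ (P : Subgroup G) => u • c = c).card := by
    rw [Nat.odd_iff, hmod, ← Nat.odd_iff, ← Nat.card_eq_fintype_card]
    exact odd_card_quotient P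
  rw [hj, pow_succ, pow_mul, hsq, one_pow, one_mul] at h1
  exact h1.symm

/-- A central involution fixed by the normalizer. -/
theorem transfer_of_central (hφ : ∀ ψ : G →* Q, ψ = 1) {u : G} (hu : u * u = 1)
    (huP : u ∈ (P : Subgroup G)) (huc : ∀ x ∈ (P : Subgroup G), x * u = u * x)
    (hN : ∀ n ∈ normalizer ((P : Subgroup G) : Set G), n⁻¹ * u * n = u) :
    φ ⟨u, huP⟩ = 1 := by
  classical
  have := Fintype.ofFinite (G ⧸ (P : Subgroup G))
  have := Fintype.ofFinite (Quotient (orbitRel (P : Subgroup G) (G ⧸ (P : Subgroup G))))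
  have hsq : φ ⟨u, huP⟩ ^ 2 = 1 := by
    rw [← map_pow, ← map_one φ]
    exact congrArg φ (Subtype.ext (by rw [pow_two]; exact hu))
  have hinv : ∀ (x : (P : Subgroup G)) (c : G ⧸ (P : Subgroup G)),
      term P φ u (x • c) = term P φ u c := by
    intro x c
    have hxu : u • (x : G) • c = (x : G) • u • c := by rw [smul_smul, smul_smul, huc x x.2]
    change term P φ u ((x : G) • c) = _
    by_cases hc : u • c = c
    · have hc' : u • (x : G) • c = (x : G) • c := by rw [hxu, hc]
      rw [term.eq_1, dif_pos hc', term, dif_pos hc]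
      have e1 : (((x : G) • c).out : G ⧸ (P : Subgroup G)) = ((x : G) * c.out : G) := by
        rw [QuotientGroup.out_eq', mk_mul_out]
      obtain ⟨p, hp, hpe⟩ : ∃ p ∈ (P : Subgroup G), ((x : G) • c).out = (x : G) * c.out * p :=
        ⟨_, QuotientGroup.eq.1 e1.symm, (mul_inv_cancel_left _ _).symm⟩
      have hmem : c.out⁻¹ * u * c.out ∈ (P : Subgroup G) := conj_out_mem hc
      calc _ = φ (⟨p, hp⟩⁻¹ * ⟨c.out⁻¹ * u * c.out, hmem⟩ * ⟨p, hp⟩) := by
            refine congrArg φ (Subtype.ext ?_)
            simp only [Subgroup.coe_mul, Subgroup.coe_inv, hpe, mul_inv_rev]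
            have hx : (x : G)⁻¹ * u * (x : G) = u := by
              rw [mul_assoc, ← huc x x.2, inv_mul_cancel_left]
            calc p⁻¹ * (c.out⁻¹ * (x : G)⁻¹) * u * ((x : G) * c.out * p)
                = p⁻¹ * c.out⁻¹ * ((x : G)⁻¹ * u * (x : G)) * c.out * p := by group
              _ = _ := by rw [hx]; group
        _ = _ := by rw [map_mul, map_mul, map_inv, inv_mul_cancel_comm]
    · have hc' : ¬ u • (x : G) • c = (x : G) • c := fun h => hc (by
        rw [hxu] at h; exact smul_left_cancel _ h)
      rw [term.eq_1, dif_neg hc', term, dif_neg hc]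
  have hsq' : ∀ c, term P φ u c ^ 2 = 1 := by
    intro c
    rw [term.eq_1]
    split_ifs
    · rw [← map_pow, ← map_one φ]
      refine congrArg φ (Subtype.ext ?_)
      simp [pow_two, mul_assoc, ← mul_assoc u u, hu]
    · exact one_pow 2
  have hfib : ∀ o : Quotient (orbitRel (P : Subgroup G) (G ⧸ (P : Subgroup G))),
      ∏ c ∈ Finset.univ.filter (fun c => Quotient.mk'' c = o), term P φ u c =
        φ ⟨u, huP⟩ ^ (Finset.univ.filter fun c : G ⧸ (P : Subgroup G) =>
          (Quotient.mk'' c : Quotient (orbitRel (P : Subgroup G) _)) = o).card := by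
    intro o
    induction o using Quotient.inductionOn' with
    | h c =>
      have hmem : ∀ d : G ⧸ (P : Subgroup G),
          (Quotient.mk'' d : Quotient (orbitRel (P : Subgroup G) _)) = Quotient.mk'' c ↔
            d ∈ orbit (P : Subgroup G) c := fun d => Quotient.eq''
      rw [Finset.prod_congr rfl (g := fun _ => term P φ u c) (fun d hd => by
        obtain ⟨x, hx⟩ := (hmem d).1 (Finset.mem_filter.1 hd).2
        rw [← hx]; exact hinv x c), Finset.prod_const]
      by_cases hfix : ∀ x : (P : Subgroup G), x • c = c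
      · congr 1
        have hn : (c.out : G)⁻¹ ∈ normalizer ((P : Subgroup G) : Set G) := by
          refine Subgroup.mem_normalizer_fintype fun p hp => ?_
          rw [inv_inv]
          exact conj_out_mem (u := p) (hfix ⟨p, hp⟩)
        replace hn : (c.out : G) ∈ normalizer ((P : Subgroup G) : Set G) := by
          simpa using inv_mem hn
        have hfu : u • c = c := hfix ⟨u, huP⟩
        rw [term.eq_1, dif_pos hfu]
        exact congrArg φ (Subtype.ext (hN _ hn))
      · have heven : 2 ∣ Nat.card (orbit (P : Subgroup G) c) := by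
          obtain ⟨k, hk⟩ := P.2.card_orbit c
          rw [hk]
          refine dvd_pow_self 2 fun h0 => hfix fun x => ?_
          rw [h0, pow_zero, Nat.card_eq_one_iff_unique] at hk
          have := hk.1
          exact congrArg Subtype.val (Subsingleton.elim
            (⟨x • c, mem_orbit c x⟩ : orbit (P : Subgroup G) c) ⟨c, mem_orbit_self c⟩)
        have hcard : (Finset.univ.filter fun d : G ⧸ (P : Subgroup G) =>
            (Quotient.mk'' d : Quotient (orbitRel (P : Subgroup G) _)) = Quotient.mk'' c).card =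
            Nat.card (orbit (P : Subgroup G) c) := by
          rw [← Fintype.card_subtype, ← Nat.card_eq_fintype_card]
          exact Nat.card_congr (Equiv.subtypeEquivRight fun d => hmem d)
        obtain ⟨j, hj⟩ := heven
        rw [hcard, hj, pow_mul, pow_mul, hsq', hsq]
  have h1 := transfer_eq_prod P φ hu
  rw [hφ (MonoidHom.transfer φ), ← Finset.prod_fiberwise Finset.univ
    (fun c => (Quotient.mk'' c : Quotient (orbitRel (P : Subgroup G) (G ⧸ (P : Subgroup G)))))
    (term P φ u), Finset.prod_congr rfl (fun o _ => hfib o), Finset.prod_pow_eq_pow_sum,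
    ← Finset.card_eq_sum_card_fiberwise (fun c _ => Finset.mem_univ _), Finset.card_univ,
    ← Nat.card_eq_fintype_card] at h1
  obtain ⟨j, hj⟩ := odd_card_quotient P
  rw [hj, pow_succ, pow_mul, hsq, one_pow, one_mul] at h1
  exact h1.symm

end CfsgLib.SemisimpleFour
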