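import Mathlib.GroupTheory.Nilpotent
import Mathlib.GroupTheory.SpecificGroups.Cyclic
import Cfsg.Agent.Lib.Invol.SemisimpleFour.Transfer

/-!
An involutive automorphism of a `2`-group with exactly two fixed points.
-/

set_option autoImplicit false
set_option linter.unusedSectionVars false

namespace CfsgLib.SemisimpleFour

open Subgroup

variable {H : Type*} [Group H] [Finite H]

/-- An involutive automorphism stabilizing `L < T` fixes a coset of `L` other than `L` in the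
normalizer of `L` in the `2`-group `T`. -/
theorem grow (σ : H ≃* H) (hσ : ∀ x, σ (σ x) = x) {L T : Subgroup H} (hT : IsPGroup 2 T)
    (hTσ : ∀ x ∈ T, σ x ∈ T) (hLσ : ∀ x ∈ L, σ x ∈ L) (hlt : L < T) :
    ∃ h ∈ T, h ∉ L ∧ h ∈ normalizer (L : Set H) ∧ h⁻¹ * σ h ∈ L := by
  classical
  have : Fact (Nat.Prime 2) := ⟨Nat.prime_two⟩
  have := hT.isNilpotent
  set N := T ⊓ normalizer (L : Set H) with hN
  have hLN : L ≤ N := le_inf hlt.le le_normalizer
  obtain ⟨y, hyN, hyL⟩ : ∃ y ∈ N, y ∉ L := by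
    have h1 : L.subgroupOf T < ⊤ := lt_top_iff_ne_top.2 fun h =>
      hlt.not_ge (subgroupOf_eq_top.1 h)
    obtain ⟨y, hy, hyL⟩ := SetLike.exists_of_lt (Group.normalizerCondition_of_isNilpotent _ h1)
    refine ⟨y, mem_inf.2 ⟨y.2, Subgroup.mem_normalizer_fintype fun l hl => ?_⟩,
      fun h => hyL (mem_subgroupOf.2 h)⟩
    simpa [mem_subgroupOf] using
      (mem_normalizer_iff.1 hy ⟨l, hlt.le hl⟩).1 (mem_subgroupOf.2 hl)
  have hLσ' : ∀ x, σ x ∈ L → x ∈ L := fun x hx => hσ x ▸ hLσ _ hx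
  have hNσ : ∀ x ∈ N, σ x ∈ N := by
    intro x hx
    refine mem_inf.2 ⟨hTσ _ (mem_inf.1 hx).1, Subgroup.mem_normalizer_fintype fun l hl => ?_⟩
    have := hLσ _ ((mem_normalizer_iff.1 (mem_inf.1 hx).2 (σ l)).1 (hLσ _ hl))
    simpa [map_mul, map_inv, hσ] using this
  let f : ↥N ⧸ L.subgroupOf N → ↥N ⧸ L.subgroupOf N :=
    Quotient.map' (fun x : N => (⟨σ x, hNσ _ x.2⟩ : N)) fun a b hab => by
      rw [QuotientGroup.leftRel_apply] at hab ⊢
      have hab' : (a : H)⁻¹ * b ∈ L := hab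
      change (σ a)⁻¹ * σ b ∈ L
      rw [← map_inv, ← map_mul]
      exact hLσ _ hab'
  have hf : Function.Involutive f := by
    intro c
    induction c using Quotient.inductionOn' with
    | h a => exact congrArg Quotient.mk'' (Subtype.ext (hσ a))
  have h2 : 2 ∣ Nat.card (↥N ⧸ L.subgroupOf N) := by
    obtain ⟨n, hn⟩ := IsPGroup.iff_card.1 (hT.to_le (inf_le_left : N ≤ T))
    obtain ⟨k, -, hk⟩ := (Nat.dvd_prime_pow Nat.prime_two).1 (hn ▸ index_dvd_card (L.subgroupOf N))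
    rw [← index_eq_card, hk]
    refine dvd_pow_self 2 fun h0 => hyL ?_
    rw [h0, pow_zero, index_eq_one, subgroupOf_eq_top] at hk
    exact hk hyN
  obtain ⟨b, hb, hfb⟩ := exists_fixed_ne f hf h2 (a := ((1 : N) : ↥N ⧸ L.subgroupOf N))
    (congrArg Quotient.mk'' (Subtype.ext (map_one σ)))
  induction b using Quotient.inductionOn' with
  | h a =>
    refine ⟨a, (mem_inf.1 a.2).1, fun ha => hb ?_, (mem_inf.1 a.2).2, ?_⟩
    · change (QuotientGroup.mk a : ↥N ⧸ L.subgroupOf N) = QuotientGroup.mk 1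
      rw [QuotientGroup.eq]
      simpa [mem_subgroupOf] using inv_mem ha
    · have h3 : (QuotientGroup.mk (⟨σ a, hNσ _ a.2⟩ : N) : ↥N ⧸ L.subgroupOf N) =
          QuotientGroup.mk a := hfb
      have h4 := (QuotientGroup.eq.1 h3.symm)
      exact h4

/-- Exponents of a generator. -/
theorem zpow_cancel {m : H} {a b : ℤ} (h : m ^ a = m ^ b) : (orderOf m : ℤ) ∣ a - b := by
  rw [orderOf_dvd_iff_zpow_eq_one, zpow_sub, h, mul_inv_cancel]

/-- A power with exponent prime to the order generates. -/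
theorem zpowers_zpow_of_isCoprime {m : H} {i : ℤ} (h : IsCoprime i (orderOf m : ℤ)) :
    zpowers (m ^ i) = zpowers m := by
  refine le_antisymm (zpowers_le.2 (zpow_mem (mem_zpowers m) i)) (zpowers_le.2 ?_)
  obtain ⟨a, b, hab⟩ := h
  refine mem_zpowers_iff.2 ⟨a, ?_⟩
  rw [← zpow_mul, eq_comm, show i * a = 1 - b * (orderOf m : ℤ) by linarith, zpow_sub, zpow_one,
    mul_comm b, zpow_mul, zpow_natCast, pow_orderOf_eq_one, one_zpow, inv_one, mul_one]

/-- Odd integers are prime to powers of two. -/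
theorem isCoprime_of_odd {i : ℤ} (h : Odd i) (n : ℕ) : IsCoprime i ((2 ^ n : ℕ) : ℤ) := by
  have h2 : IsCoprime i (2 : ℤ) := Int.isCoprime_two_right.2 h
  simpa using h2.pow_right (n := n)

/-- The involution of a cyclic group. -/
theorem sq_one_of_mem_zpowers {m x : H} (hx : x ∈ zpowers m) {n : ℕ} (hn : orderOf m = 2 * n)
    (hx2 : x * x = 1) : x = 1 ∨ x = m ^ n := by
  obtain ⟨a, rfl⟩ := mem_zpowers_iff.1 hx
  rw [← zpow_add] at hx2
  obtain ⟨k, hk⟩ := orderOf_dvd_iff_zpow_eq_one.2 hx2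
  rw [hn] at hk
  push_cast at hk
  have ha : a = (n : ℤ) * k := by linarith
  obtain ⟨c, hc⟩ := Int.even_or_odd' k
  rcases hc with hc | hc
  · left
    rw [ha, hc, show (n : ℤ) * (2 * c) = ((2 * n : ℕ) : ℤ) * c by push_cast; ring, ← hn, zpow_mul,
      zpow_natCast, pow_orderOf_eq_one, one_zpow]
  · right
    rw [ha, hc, show (n : ℤ) * (2 * c + 1) = ((2 * n : ℕ) : ℤ) * c + n by push_cast; ring, ← hn,
      zpow_add, zpow_mul, zpow_natCast, zpow_natCast, pow_orderOf_eq_one, one_zpow, one_mul]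

/-- A `2`-group with an involutive automorphism fixing exactly `1` and the involution `ρ` is
cyclic, or is a split or non-split extension of a cyclic group inverted by it. -/
theorem twisted_shape (σ : H ≃* H) (hσ : ∀ x, σ (σ x) = x) (h2 : IsPGroup 2 H) {ρ : H}
    (hρ1 : ρ ≠ 1) (hρ2 : ρ * ρ = 1) (hρ : σ ρ = ρ) (hfix : ∀ x, σ x = x → x = 1 ∨ x = ρ) :
    (∃ g : H, ∀ x, x ∈ zpowers g) ∨
      ∃ (h m : H) (l : ℤ), h ∉ zpowers m ∧ h⁻¹ * σ h = m ∧ h⁻¹ * m * h = m⁻¹ ∧ σ m = m⁻¹ ∧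
        h * h = m ^ l ∧ Even l ∧ (orderOf m : ℤ) ∣ 2 * l ∧ ρ ∈ zpowers m ∧
        ∀ x, x ∈ zpowers m ∨ h⁻¹ * x ∈ zpowers m := by
  classical
  have : Fact (Nat.Prime 2) := ⟨Nat.prime_two⟩
  obtain ⟨m₀, hm₀, hmax⟩ := (Set.toFinite {m : H | ρ ∈ zpowers m ∧ σ m ∈ zpowers m}).exists_maximalFor
    (fun m : H => orderOf m) _ ⟨ρ, mem_zpowers ρ, hρ.symm ▸ mem_zpowers ρ⟩
  replace hmax : ∀ m : H, ρ ∈ zpowers m → σ m ∈ zpowers m → orderOf m ≤ orderOf m₀ :=
    fun m h h' => (le_total (orderOf m) (orderOf m₀)).elim id fun hle => hmax ⟨h, h'⟩ hle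
  by_cases hall : ∀ x, x ∈ zpowers m₀
  · exact Or.inl ⟨m₀, hall⟩
  right
  have hfix' : ∀ {m : H}, ρ ∈ zpowers m → ∀ x, σ x = x → x ∈ zpowers m := by
    intro m hm x hx
    rcases hfix x hx with rfl | rfl
    · exact one_mem _
    · exact hm
  obtain ⟨hρm₀, hσm₀⟩ := hm₀
  obtain ⟨j, hj⟩ := mem_zpowers_iff.1 hσm₀
  obtain ⟨h, -, hh, hhN, hc⟩ := grow σ hσ (L := zpowers m₀) (T := ⊤) (h2.to_subgroup _)
    (fun _ _ => mem_top _) (fun x hx => by
      obtain ⟨a, rfl⟩ := mem_zpowers_iff.1 hx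
      rw [map_zpow]; exact zpow_mem hσm₀ a)
    (lt_top_iff_ne_top.2 fun e => hall fun x => e ▸ mem_top x)
  obtain ⟨i, hi⟩ := mem_zpowers_iff.1 hc
  -- the order of `m₀` and its exponents
  obtain ⟨N, hN⟩ : ∃ N, orderOf m₀ = 2 ^ (N + 1) := by
    obtain ⟨N, hN⟩ := IsPGroup.iff_orderOf.1 h2 m₀
    rcases N with _ | N
    · refine absurd ?_ hρ1
      rw [pow_zero, orderOf_eq_one_iff] at hN
      simpa [hN] using hρm₀
    · exact ⟨N, hN⟩
  have hq : orderOf m₀ = 2 * 2 ^ N := by rw [hN, pow_succ, mul_comm]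
  have hq2 : (2 : ℤ) ∣ (orderOf m₀ : ℤ) := ⟨(2 ^ N : ℕ), by rw [hq]; push_cast; ring⟩
  have hauto : ∀ (f : H ≃* H) (e : ℤ), f m₀ = m₀ ^ e → Odd e := by
    intro f e he
    by_contra ho
    obtain ⟨d, hd⟩ := Int.not_odd_iff_even.1 ho
    have h1 : f (m₀ ^ (2 ^ N : ℕ)) = 1 := by
      rw [map_pow, he, ← zpow_natCast, ← zpow_mul, hd,
        show (d + d) * ((2 ^ N : ℕ) : ℤ) = (orderOf m₀ : ℤ) * d by rw [hq]; push_cast; ring,
        zpow_mul, zpow_natCast, pow_orderOf_eq_one, one_zpow]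
    exact pow_ne_one_of_lt_orderOf (by positivity) (by rw [hq]; linarith [Nat.two_pow_pos N])
      (f.map_eq_one_iff.1 h1)
  have hjodd : Odd j := hauto σ j hj.symm
  have hiodd : Odd i := by
    by_contra ho
    obtain ⟨i', hi'⟩ := Int.not_odd_iff_even.1 ho
    obtain ⟨o, ho'⟩ := hjodd
    -- an exponent `l` with `h * m₀ ^ l` fixed
    obtain ⟨l, hl⟩ : ∃ l : ℤ, (orderOf m₀ : ℤ) ∣ i + (j - 1) * l := by
      rcases Nat.eq_zero_or_pos N with rfl | hN0
      · exact ⟨0, by rw [hq]; exact ⟨i', by rw [hi']; push_cast; ring⟩⟩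
      have hoodd : Odd o := by
        by_contra hoe
        obtain ⟨d, hd⟩ := Int.not_odd_iff_even.1 hoe
        obtain ⟨M, rfl⟩ : ∃ M, N = M + 1 := ⟨N - 1, by omega⟩
        have hx : σ (m₀ ^ (2 ^ M : ℕ)) = m₀ ^ (2 ^ M : ℕ) := by
          rw [map_pow, ← hj, ← zpow_natCast, ← zpow_natCast m₀ (2 ^ M), ← zpow_mul, ho', hd,
            show (2 * (d + d) + 1) * ((2 ^ M : ℕ) : ℤ) = (orderOf m₀ : ℤ) * d + ((2 ^ M : ℕ) : ℤ) by
              rw [hN]; push_cast; ring,
            zpow_add, zpow_mul, zpow_natCast, pow_orderOf_eq_one, one_zpow, one_mul]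
        have hsq : m₀ ^ (2 ^ M : ℕ) * m₀ ^ (2 ^ M : ℕ) = 1 := by
          rcases hfix _ hx with e | e <;> rw [e]
          · exact one_mul 1
          · exact hρ2
        rw [← pow_add] at hsq
        refine pow_ne_one_of_lt_orderOf (by positivity) ?_ hsq
        rw [hN, pow_succ, pow_succ]
        have := Nat.two_pow_pos M
        omega
      obtain ⟨a, b, hab⟩ : IsCoprime o (orderOf m₀ : ℤ) := hN ▸ isCoprime_of_odd hoodd _
      refine ⟨-(i' * a), 2 * i' * b, ?_⟩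
      rw [hi', ho']
      linear_combination (2 * i') * hab.symm
    refine hh ?_
    have hx : σ (h * m₀ ^ l) = h * m₀ ^ l := by
      rw [map_mul, map_zpow, ← hj, ← zpow_mul, show σ h = h * m₀ ^ i by rw [hi]; group,
        mul_assoc, ← zpow_add]
      congr 1
      rw [show i + j * l = (i + (j - 1) * l) + l by ring, zpow_add,
        orderOf_dvd_iff_zpow_eq_one.1 hl, one_mul]
    have := hfix' hρm₀ _ hx
    exact (Subgroup.mul_mem_cancel_right _ (zpow_mem (mem_zpowers m₀) l)).1 this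
  -- change the generator
  obtain ⟨m, hm⟩ : ∃ m, h⁻¹ * σ h = m := ⟨_, rfl⟩
  have hzm : zpowers m = zpowers m₀ := by
    rw [← hm, ← hi]
    exact zpowers_zpow_of_isCoprime (hN ▸ isCoprime_of_odd hiodd _)
  have hord : orderOf m = orderOf m₀ := by
    rw [← Nat.card_zpowers, ← Nat.card_zpowers, hzm]
  have hρm : ρ ∈ zpowers m := hzm ▸ hρm₀
  replace hh : h ∉ zpowers m := hzm ▸ hh
  replace hhN : h ∈ normalizer (zpowers m : Set H) := hzm ▸ hhN
  replace hmax : ∀ m' : H, ρ ∈ zpowers m' → σ m' ∈ zpowers m' → orderOf m' ≤ orderOf m :=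
    fun m' a b => hord ▸ hmax m' a b
  rw [← hord] at hq hq2 hN
  clear hauto hjodd hiodd hi hj hc
  have hσh : σ h = h * m := by rw [← hm]; group
  have hσm : σ m = m⁻¹ := by rw [← hm, map_mul, map_inv, hσ]; group
  obtain ⟨η, hη⟩ : ∃ η : ℤ, m ^ η = h⁻¹ * m * h :=
    mem_zpowers_iff.1 (by simpa using (mem_normalizer_iff.1 (inv_mem hhN) m).1 (mem_zpowers m))
  have hηodd : Odd η := by
    by_contra ho
    obtain ⟨d, hd⟩ := Int.not_odd_iff_even.1 ho
    refine pow_ne_one_of_lt_orderOf (x := m) (n := 2 ^ N) (by positivity)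
      (by rw [hq]; linarith [Nat.two_pow_pos N]) ?_
    have h1 : h⁻¹ * m ^ (2 ^ N : ℕ) * h = 1 := by
      rw [show h⁻¹ * m ^ (2 ^ N : ℕ) * h = (h⁻¹ * m * h) ^ (2 ^ N : ℕ) by
          simpa using (conj_pow (a := h⁻¹) (b := m) (i := (2 ^ N : ℕ))).symm,
        ← hη, ← zpow_natCast, ← zpow_mul, hd,
        show (d + d) * ((2 ^ N : ℕ) : ℤ) = (orderOf m : ℤ) * d by rw [hq]; push_cast; ring,
        zpow_mul, zpow_natCast, pow_orderOf_eq_one, one_zpow]
    have h2 := congrArg (fun x => h * x * h⁻¹) h1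
    simpa [mul_assoc] using h2
  obtain ⟨l₀, hl₀⟩ := hηodd
  have hmhm : ∀ a : ℤ, h * m * h * m ^ a = h * h * m ^ (η + a) := by
    intro a; rw [zpow_add, hη]; group
  obtain ⟨l, hl⟩ : ∃ l : ℤ, m ^ l = h * h := by
    refine mem_zpowers_iff.1 ?_
    have hx : σ (h * h * m ^ (l₀ + 1)) = h * h * m ^ (l₀ + 1) := by
      rw [map_mul, map_mul, map_zpow, hσh, hσm, inv_zpow', ← mul_assoc (h * m) h m,
        mul_assoc (h * m * h) m, ← zpow_one_add, hmhm]
      congr 2
      rw [hl₀]; ring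
    exact (Subgroup.mul_mem_cancel_right _ (zpow_mem (mem_zpowers m) _)).1 (hfix' hρm _ hx)
  have hsum : (orderOf m : ℤ) ∣ l + (η + 1) + l := by
    have h1 : σ (m ^ l) = σ (h * h) := by rw [hl]
    rw [map_zpow, hσm, inv_zpow', map_mul, hσh, ← mul_assoc, ← zpow_one (a := m)] at h1
    simp only [zpow_one] at h1
    have h2 : m ^ (-l) = m ^ (l + (η + 1)) := by
      rw [zpow_add, hl, ← hmhm, zpow_one, h1]
    have := zpow_cancel h2.symm
    rwa [sub_neg_eq_add] at this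
  have hleven : Even l := by
    by_contra ho
    rw [Int.not_even_iff_odd] at ho
    have hz : zpowers m ≤ zpowers h := by
      rw [← zpowers_zpow_of_isCoprime (m := m) (i := l) (hN ▸ isCoprime_of_odd ho _)]
      exact zpowers_le.2 (hl ▸ mul_mem (mem_zpowers h) (mem_zpowers h))
    have h1 := hmax h (hz hρm) (hσh ▸ mul_mem (mem_zpowers h) (hz (mem_zpowers m)))
    have h2 : Nat.card (zpowers m) < Nat.card (zpowers h) :=
      Set.Finite.card_lt_card (Set.toFinite _) ⟨hz, fun h' => hh (h' (mem_zpowers h))⟩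
    rw [Nat.card_zpowers, Nat.card_zpowers] at h2
    omega
  have hη1 : (orderOf m : ℤ) ∣ η + 1 := by
    -- `h` inverts `σ h * h`
    have hy : σ h * h = m ^ (l + η) := by rw [zpow_add, hl, hσh, hη]; group
    have h1 : h * (σ h * h) * h⁻¹ = σ (σ h * h) := by rw [map_mul, hσ]; group
    rw [hy, map_zpow, hσm, inv_zpow'] at h1
    have h2 : h⁻¹ * m ^ (-(l + η)) * h = m ^ (l + η) := by rw [← h1]; group
    have h3 : h⁻¹ * m ^ (-(l + η)) * h = (h⁻¹ * m * h) ^ (-(l + η)) := by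
      simpa using (conj_zpow (a := h⁻¹) (b := m) (i := -(l + η))).symm
    rw [h3, ← hη, ← zpow_mul] at h2
    have h4 := zpow_cancel h2.symm
    rw [show l + η - η * -(l + η) = (l + η) * (η + 1) by ring] at h4
    refine (IsCoprime.dvd_of_dvd_mul_left ?_ h4)
    refine (hN ▸ isCoprime_of_odd (i := l + η) ?_ _).symm
    exact hleven.add_odd ⟨l₀, hl₀⟩
  have hinv : h⁻¹ * m * h = m⁻¹ := by
    rw [← hη, ← zpow_neg_one, ← mul_inv_eq_one, ← zpow_neg, ← zpow_add,
      ← orderOf_dvd_iff_zpow_eq_one]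
    simpa using hη1
  have h2l : (orderOf m : ℤ) ∣ 2 * l := by
    have := dvd_sub hsum hη1
    rwa [show l + (η + 1) + l - (η + 1) = 2 * l by ring] at this
  refine ⟨h, m, l, hh, hm, hinv, hσm, hl.symm, hleven, h2l, hρm, ?_⟩
  -- everything lies in the two cosets
  have hconj : ∀ a : ℤ, h⁻¹ * m ^ a * h = m ^ (-a) := by
    intro a
    rw [show h⁻¹ * m ^ a * h = (h⁻¹ * m * h) ^ a by
      simpa using (conj_zpow (a := h⁻¹) (b := m) (i := a)).symm, hinv, inv_zpow']
  let L : Subgroup H :=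
    { carrier := {x | x ∈ zpowers m ∨ h⁻¹ * x ∈ zpowers m}
      one_mem' := Or.inl (one_mem _)
      mul_mem' := by
        rintro x y (hx | hx) (hy | hy)
        · exact Or.inl (mul_mem hx hy)
        · obtain ⟨a, rfl⟩ := mem_zpowers_iff.1 hx
          obtain ⟨b, hb⟩ := mem_zpowers_iff.1 hy
          refine Or.inr (mem_zpowers_iff.2 ⟨-a + b, ?_⟩)
          rw [zpow_add, hb, ← hconj]; group
        · refine Or.inr ?_
          rw [← mul_assoc]
          exact mul_mem hx hy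
        · obtain ⟨a, ha⟩ := mem_zpowers_iff.1 hx
          obtain ⟨b, hb⟩ := mem_zpowers_iff.1 hy
          refine Or.inl (mem_zpowers_iff.2 ⟨l + -a + b, ?_⟩)
          rw [zpow_add, zpow_add, hl, hb, ← hconj, ha]; group
      inv_mem' := by
        rintro x (hx | hx)
        · exact Or.inl (inv_mem hx)
        · obtain ⟨a, ha⟩ := mem_zpowers_iff.1 hx
          refine Or.inr (mem_zpowers_iff.2 ⟨a - l, ?_⟩)
          have hxx : x = h * m ^ a := by rw [ha]; group
          have hl' : (h * h)⁻¹ = m ^ (-l) := by rw [zpow_neg, hl]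
          rw [hxx, show a - l = -(-a) + -l by ring, zpow_add, ← hconj, zpow_neg m a, ← hl']
          group }
  by_contra hne
  simp only [not_forall] at hne
  obtain ⟨x₀, hx₀⟩ := hne
  have hσz : ∀ x ∈ zpowers m, σ x ∈ zpowers m := by
    intro x hx
    obtain ⟨a, rfl⟩ := mem_zpowers_iff.1 hx
    rw [map_zpow, hσm]
    exact zpow_mem (inv_mem (mem_zpowers m)) a
  obtain ⟨s, -, hs, -, hc⟩ := grow σ hσ (L := L) (T := ⊤) (h2.to_subgroup _)
    (fun _ _ => mem_top _) (fun x hx => by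
      rcases hx with hx | hx
      · exact Or.inl (hσz x hx)
      · refine Or.inr ?_
        have : σ (h⁻¹ * x) ∈ zpowers m := hσz _ hx
        rw [map_mul, map_inv, hσh, mul_inv_rev, mul_assoc] at this
        exact (Subgroup.mul_mem_cancel_left _ (inv_mem (mem_zpowers m))).1 this)
    (lt_top_iff_ne_top.2 fun e => hx₀ (e.symm ▸ mem_top x₀ : x₀ ∈ L))
  obtain ⟨c, hcdef⟩ : ∃ c, s⁻¹ * σ s = c := ⟨_, rfl⟩
  have hσs : σ s = s * c := by rw [← hcdef]; group
  rw [hcdef] at hc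
  rcases hc with hc | hc
  · obtain ⟨a, rfl⟩ := mem_zpowers_iff.1 hc
    obtain ⟨b, hb | hb⟩ := Int.even_or_odd' a
    · refine hs (Or.inl ?_)
      have hx : σ (s * m ^ b) = s * m ^ b := by
        rw [map_mul, hσs, map_zpow, hσm, inv_zpow', mul_assoc, ← zpow_add]
        congr 2
        omega
      exact (Subgroup.mul_mem_cancel_right _ (zpow_mem (mem_zpowers m) b)).1 (hfix' hρm _ hx)
    · have hx : σ (s * (h * m ^ (-b))⁻¹) = s * (h * m ^ (-b))⁻¹ := by
        have he : σ (h * m ^ (-b)) = h * m ^ (-b) * m ^ a := by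
          rw [map_mul, hσh, map_zpow, hσm, inv_zpow', mul_assoc, mul_assoc, ← zpow_one_add,
            ← zpow_add]
          congr 2
          omega
        rw [map_mul, map_inv, he, hσs]; group
      have h1 : s * (h * m ^ (-b))⁻¹ ∈ L := Or.inl (hfix' hρm _ hx)
      have h2 : h * m ^ (-b) ∈ L := Or.inr (by
        rw [inv_mul_cancel_left]; exact zpow_mem (mem_zpowers m) _)
      exact hs (by simpa [mul_assoc] using mul_mem h1 h2)
  · obtain ⟨b, hb⟩ := mem_zpowers_iff.1 hc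
    have hcb : c = h * m ^ b := by rw [hb]; group
    have hσc : σ c = c⁻¹ := by rw [← hcdef, map_mul, map_inv, hσ]; group
    have h1 : h * m ^ (1 - b) = h⁻¹ * m ^ b := by
      rw [hcb, map_mul, hσh, map_zpow, hσm, inv_zpow', mul_assoc, ← zpow_one_add] at hσc
      rw [show (1 : ℤ) - b = 1 + -b by ring, hσc]
      rw [mul_inv_rev, ← zpow_neg, ← hconj]
      group
    have h2 : h * h = m ^ (2 * b - 1) := by
      have h3 : h * h = h * (h * m ^ (1 - b)) * m ^ (b - 1) := by group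
      rw [h3, h1, show 2 * b - 1 = b + (b - 1) by ring, zpow_add]; group
    rw [← hl] at h2
    obtain ⟨d, hd⟩ := dvd_trans hq2 (zpow_cancel h2)
    obtain ⟨l', hl'⟩ := hleven
    omega

end CfsgLib.SemisimpleFour
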